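import Groth.Agent.FF30.RR
import Groth.Agent.FF30.Count
import Groth.Agent.FF30.AlgClosed

/-! Linear equivalence of divisors of a function field. -/

set_option autoImplicit false

universe u v

open FunFld WithZero

namespace Groth.Agent.CrvPic30

open Groth.Agent

variable {k : Type u} [Field k] {K : Type v} [Field K] [Algebra k K]

theorem deg_zero' : (0 : Divisor k K).deg = 0 := by simp [Divisor.deg]

theorem exists_eff (h : FF30.FF k K) {D : Divisor k K} (hD : 0 < ell D) :
    ∃ E : Divisor k K, 0 ≤ E ∧ D - E ∈ prinDivs k K ∧ E.deg = D.deg := by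
  obtain ⟨x, hx, hx0⟩ := FF30.exists_ne_zero_of_ell_pos hD
  refine ⟨D + div k x, fun P => ?_, by rw [sub_add_cancel_left]; exact neg_mem (FF30.div_mem_prinDivs x), ?_⟩
  · rw [Finsupp.add_apply, h.div_apply, Finsupp.zero_apply]
    have := (FF30.mem_L_iff_ord hx0).1 hx P
    omega
  · rw [FF30.deg_add, h.deg_div, add_zero]

theorem ell_pos_of_nonneg (hK : IsFunctionField k K) {E : Divisor k K} (hE : 0 ≤ E) : 0 < ell E := by
  have := FF30.FF.ell_mono (FF30.FF.of_isFunctionField hK) hE
  rw [FF30.ell_zero hK] at this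
  omega

theorem ell_eq_zero_of_deg_neg (h : FF30.FF k K) {D : Divisor k K} (hD : D.deg < 0) : ell D = 0 := by
  rw [ell, h.L_eq_bot_of_deg_neg hD, finrank_bot]

theorem deg_nonneg_of_ell_pos (h : FF30.FF k K) {D : Divisor k K} (hD : 0 < ell D) : 0 ≤ D.deg := by
  by_contra hn
  rw [ell_eq_zero_of_deg_neg h (not_le.1 hn)] at hD
  omega

theorem mem_prinDivs_of_deg_zero (hK : IsFunctionField k K) {D : Divisor k K} (hd : D.deg = 0)
    (hl : 0 < ell D) : D ∈ prinDivs k K := by
  have h := FF30.FF.of_isFunctionField hK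
  obtain ⟨E, hE, hDE, hdE⟩ := exists_eff h hl
  have hE0 := h.eq_of_le_of_deg_le hE (by rw [hdE, hd, deg_zero'])
  rwa [← hE0, sub_zero] at hDE

theorem sub_mem_of_deg_eq (hK : IsFunctionField k K) {D E : Divisor k K} (hd : D.deg = E.deg)
    (hl : 0 < ell (D - E)) : D - E ∈ prinDivs k K :=
  mem_prinDivs_of_deg_zero hK (by rw [FF30.deg_sub, hd, sub_self]) hl

theorem deg_congr_prin (h : FF30.FF k K) {D E : Divisor k K} (hDE : D - E ∈ prinDivs k K) : D.deg = E.deg := by
  have := FF30.deg_eq_zero_of_mem_prinDivs h hDE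
  rw [FF30.deg_sub] at this
  omega

variable {W : Divisor k K}

/-- A divisor of degree `2g - 2` with `g` sections is canonical up to linear equivalence. -/
theorem sub_canonical_mem (hK : IsFunctionField k K) (hW : IsCanonical k K W) {D : Divisor k K}
    (hd : D.deg = 2 * (genus k K : ℤ) - 2) (hl : genus k K ≤ ell D) : D - W ∈ prinDivs k K := by
  have h1 := FF30.riemann_roch' hK hW D
  have hw := FF30.deg_canonical hK hW
  have := sub_mem_of_deg_eq hK (D := W) (E := D) (by rw [hd, hw]) (by omega)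
  rw [← neg_sub]
  exact neg_mem this

theorem ell_le_deg_add_one (hK : IsFunctionField k K) (D : Divisor k K) (hd : -1 ≤ D.deg) :
    (ell D : ℤ) ≤ D.deg + 1 := by
  by_cases hl : ell D = 0
  · omega
  · have h := FF30.FF.of_isFunctionField hK
    obtain ⟨E, hE, hDE, hdE⟩ := exists_eff h (Nat.pos_of_ne_zero hl)
    have := h.ell_sub_le hE
    rw [FF30.ell_congr h hDE]
    rw [FF30.ell_zero hK, deg_zero', hdE] at this
    omega

end Groth.Agent.CrvPic30
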