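import Groth.Agent.CrvPic30.Classify
import Groth.Agent.Crv77.PointTwist
import Groth.Agent.Crv77.PointDeg
import Groth.Agent.Curves2.IdealFrame

/-! The ideal of a closed point of a curve is `O(-P)`. -/

set_option autoImplicit false
set_option linter.style.haveILetI false

universe u

open CategoryTheory AlgebraicGeometry TopologicalSpace Opposite FunFld

namespace Groth.Agent.CrvPic30

variable {k : Type u} [Field k] {C : Scheme.{u}} [C.Over (Spec (CommRingCat.of k))] [IsIntegral C]

attribute [local instance] ffAlg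

namespace Setup

open Var76.LineBundle

/-- The place of a closed point. -/
noncomputable abbrev pl (h : Setup k C) {P : C} (hP : IsClosed ({P} : Set C)) : Place k C.functionField :=
  h.place ⟨P, hP⟩

theorem pl_ne (h : Setup k C) {P Q : C} (hP : IsClosed ({P} : Set C)) (hQ : IsClosed ({Q} : Set C))
    (hne : P ≠ Q) : h.pl hP ≠ h.pl hQ := fun e => hne (congrArg Subtype.val (h.place.injective e))

/-- A germ has value `< 1` at a closed point exactly when the function vanishes there. -/
theorem val_germ_lt_one_iff (h : Setup k C) {P : C} (hP : IsClosed ({P} : Set C)) {U : C.Opens} (hPU : P ∈ U)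
    (a : Γ(C, U)) :
    (h.pl hP).1 (C.presheaf.germ U (genericPoint C) (gen_mem hPU) a) < 1 ↔ P ∉ C.basicOpen a := by
  set z := C.presheaf.germ U (genericPoint C) (gen_mem hPU) a
  have hle : (h.pl hP).1 z ≤ 1 :=
    (h.place_le_one_iff ⟨P, hP⟩ z).2 ⟨_, Curves2.algebraMap_germ P hPU a⟩
  rw [Scheme.mem_basicOpen _ _ _ hPU]
  constructor
  · rintro hlt ⟨v, hv⟩
    have hz : algebraMap (C.presheaf.stalk P) C.functionField (v : C.presheaf.stalk P) = z := by
      rw [hv]; exact Curves2.algebraMap_germ P hPU a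
    have hinv : (h.pl hP).1 z⁻¹ ≤ 1 := (h.place_le_one_iff ⟨P, hP⟩ _).2
      ⟨(v⁻¹ : (C.presheaf.stalk P)ˣ), by rw [map_units_inv, hz]⟩
    rw [map_inv₀] at hinv
    have hz0 : z ≠ 0 := by
      rw [← hz]; exact (v.isUnit.map (algebraMap _ C.functionField)).ne_zero
    exact absurd ((inv_le_one₀ (zero_lt_iff.2 ((Valuation.ne_zero_iff _).2 hz0))).1 hinv) (not_le.2 hlt)
  · intro hu
    refine hle.lt_of_ne fun he => hu ?_
    have hz0 : z ≠ 0 := by rintro e; rw [e, map_zero] at he; exact zero_ne_one he
    obtain ⟨b, hb⟩ := (h.place_le_one_iff ⟨P, hP⟩ z⁻¹).1 (by rw [map_inv₀]; exact le_of_eq (by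
      rw [show (h.place ⟨P, hP⟩).1 z = 1 from he, inv_one]))
    refine isUnit_iff_exists_inv.2 ⟨b, IsFractionRing.injective (C.presheaf.stalk P) C.functionField ?_⟩
    rw [map_mul, hb, Curves2.algebraMap_germ P hPU a, map_one]
    exact mul_inv_cancel₀ hz0

/-- The germ at the generic point of a section of an ideal. -/
noncomputable def idealVal (I : C.IdealSheafData) (V : C.Opens) (hV : genericPoint C ∈ V)
    (m : Γ(ClSub.idealMod I, V)) : C.functionField :=
  C.presheaf.germ V (genericPoint C) hV (OmegaSh.idealSect I V m)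

theorem idealVal_add (I : C.IdealSheafData) (V : C.Opens) (hV : genericPoint C ∈ V)
    (m m' : Γ(ClSub.idealMod I, V)) : idealVal I V hV (m + m') = idealVal I V hV m + idealVal I V hV m' := by
  unfold idealVal; rw [map_add, map_add]

theorem idealVal_zero (I : C.IdealSheafData) (V : C.Opens) (hV : genericPoint C ∈ V) :
    idealVal I V hV 0 = 0 := by
  unfold idealVal; rw [map_zero, map_zero]

theorem idealVal_res (I : C.IdealSheafData) {V W : C.Opens} (h : W ≤ V) (hW : genericPoint C ∈ W)
    (m : Γ(ClSub.idealMod I, V)) : idealVal I W hW (res (ClSub.idealMod I) h m) = idealVal I V (h hW) m := by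
  unfold idealVal; rw [Curves2.idealSect_res, TopCat.Presheaf.germ_res_apply]

theorem idealVal_smul (I : C.IdealSheafData) (V : C.Opens) (hV : genericPoint C ∈ V) (r : Γ(C, V))
    (m : Γ(ClSub.idealMod I, V)) :
    idealVal I V hV (r • m) = C.presheaf.germ V (genericPoint C) hV r * idealVal I V hV m := by
  unfold idealVal; rw [Omega57.idealSect_smul, map_mul]

theorem nonempty_ptIdeal_iso (h : Setup k C) {P : C} (hP : IsClosed ({P} : Set C)) :
    Nonempty (ClSub.idealMod (Crv77.ptIdeal hP) ≅ h.O (-Finsupp.single (h.pl hP) 1)) := by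
  classical
  set I := Crv77.ptIdeal hP
  set D : Divisor k C.functionField := -Finsupp.single (h.pl hP) 1 with hD
  have hDP : D (h.pl hP) = -1 := by rw [hD, Finsupp.neg_apply, Finsupp.single_eq_same]
  have hDQ : ∀ (y : C) (hy : IsClosed ({y} : Set C)), y ≠ P → D (h.pl hy) = 0 := fun y hy hne => by
    rw [hD, Finsupp.neg_apply, Finsupp.single_eq_of_ne (h.pl_ne hy hP hne), neg_zero]
  have hbound : ∀ (V : C.Opens) (m : Γ(ClSub.idealMod I, V)) (x : V) (hx : IsClosed ({x.1} : Set C)),
      (h.pl hx).1 (C.presheaf.germ V (genericPoint C) (gen_mem x.2) (OmegaSh.idealSect I V m)) ≤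
        WithZero.exp (D (h.pl hx)) := by
    intro V m x hx
    by_cases hxP : x.1 = P
    · obtain ⟨W, hW, hxW, hWV⟩ := exists_isAffineOpen_mem_and_subset x.2
      have hWV' : W ≤ V := hWV
      have hmem := Curves2.idealSect_mem_ideal (I := I) ⟨W, hW⟩ (res (ClSub.idealMod I) hWV' m)
      change OmegaSh.idealSect I W (res (ClSub.idealMod I) hWV' m) ∈ _ at hmem
      rw [Curves2.idealSect_res, Crv77.mem_ptIdeal_iff] at hmem
      have hlt := (h.val_germ_lt_one_iff hx hxW _).2 (hxP ▸ hmem)
      rw [TopCat.Presheaf.germ_res_apply] at hlt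
      obtain ⟨x, hxV⟩ := x
      dsimp only at hxP hx hlt ⊢
      subst hxP
      rw [hDP]
      exact FF30.val_lt_one_le _ hlt
    · rw [hDQ _ hx hxP, WithZero.exp_zero]
      exact (h.place_le_one_iff ⟨x.1, hx⟩ _).2 ⟨_, Curves2.algebraMap_germ x.1 x.2 _⟩
  let φ : ClSub.idealMod I ⟶ h.O D :=
    ⟨PresheafOfModules.homMk (M₁ := (ClSub.idealMod I).val) (M₂ := (h.O D).val)
      { app := fun V => AddCommGrpCat.ofHom
          { toFun := fun (m : Γ(ClSub.idealMod I, V.unop)) =>
              (⟨fun y => idealVal I V.unop (gen_mem y.2) m,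
                fun _ _ => rfl, fun x hx => hbound V.unop m x hx⟩ : Γ(h.O D, V.unop))
            map_zero' := Subtype.ext (funext fun y => idealVal_zero I V.unop (gen_mem y.2))
            map_add' := fun m m' => Subtype.ext (funext fun y => idealVal_add I V.unop (gen_mem y.2) m m') }
        naturality := fun {V W} i => by
          ext m
          exact Subtype.ext (funext fun y => idealVal_res I i.unop.le (gen_mem y.2) m) }
      (fun V r m => Subtype.ext (funext fun y => by
        refine (idealVal_smul I V.unop (gen_mem y.2) r m).trans ?_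
        rw [← Curves2.algebraMap_germ y.1 y.2 r]
        exact (@Algebra.smul_def (C.presheaf.stalk y.1) C.functionField _ _
          (stalkFunctionFieldAlgebra C y.1) _ _).symm))⟩
  have hval : ∀ (V : C.Opens) (hV : genericPoint C ∈ V) (m : Γ(ClSub.idealMod I, V)),
      rval hV (φ.app V m) = C.presheaf.germ V (genericPoint C) hV (OmegaSh.idealSect I V m) := fun _ _ _ => rfl
  have hinj : ∀ V : C.Opens, Function.Injective (φ.app V) := fun V m m' e => by
    rcases isEmpty_or_nonempty V with hV | ⟨⟨y, hy⟩⟩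
    · exact QC70.section_ext _ m m' fun p hp => (hV.false ⟨p, hp⟩).elim
    · refine Omega57.idealSect_injective I V (germ_injective_of_isIntegral C (genericPoint C) (gen_mem hy) ?_)
      rw [← hval, ← hval, e]
  have hsurj : ∀ (V : C.Opens), IsAffineOpen V → Function.Surjective (φ.app V) := fun V hV t => by
    rcases isEmpty_or_nonempty V with hV' | ⟨⟨y, hy⟩⟩
    · exact ⟨0, QC70.section_ext _ _ _ fun p hp => (hV'.false ⟨p, hp⟩).elim⟩
    have hη := gen_mem hy
    obtain ⟨a, ha⟩ := (h.mem_range_germ_iff V hη (rval hη t)).2 fun x hx hxV =>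
      (rval_le hη t x hx hxV).trans (by
        rw [← WithZero.exp_zero]
        refine WithZero.exp_le_exp.2 ?_
        by_cases hxP : x = P
        · subst hxP; rw [hDP]; norm_num
        · rw [hDQ x hx hxP])
    obtain ⟨m, hm⟩ := Curves2.exists_idealSect_of_mem (I := I) ⟨V, hV⟩ (r := a) ((Crv77.mem_ptIdeal_iff hP ⟨V, hV⟩ a).2 (by
      by_cases hPV : P ∈ V
      · refine (h.val_germ_lt_one_iff hP hPV a).1 ?_
        rw [ha]
        refine (rval_le hη t P hP hPV).trans_lt ?_
        rw [hDP, ← WithZero.exp_zero]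
        exact WithZero.exp_lt_exp.2 (by norm_num)
      · exact fun hb => hPV (C.basicOpen_le a hb)))
    refine ⟨m, rval_injective hη ?_⟩
    rw [hval, hm, ha]
  have : Mono φ := QC70.mono_of_app_injective φ hinj
  have : Epi φ := QC70.epi_of_locally_surjective φ fun V z p hp => by
    obtain ⟨W, hW, hpW, hWV⟩ := exists_isAffineOpen_mem_and_subset hp
    obtain ⟨s, hs⟩ := hsurj W hW (QC70.res _ hWV z)
    exact ⟨W, hWV, s, hpW, hs⟩
  have := isIso_of_mono_of_epi φ
  exact ⟨asIso φ⟩

end Setup

end Groth.Agent.CrvPic30
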