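import Groth.Agent.CrvPic30.Sheaf
import Groth.Agent.Crv77.TwistSection
import Groth.Agent.Crv77.RR
import Groth.Agent.FF30.RR
import Groth.Agent.FF30.Count
import Groth.Agent.Mero90.Frames

/-! Invertible sheaves on curves are divisor classes. -/

set_option autoImplicit false
set_option linter.style.haveILetI false

universe u

open CategoryTheory AlgebraicGeometry TopologicalSpace Opposite FunFld

namespace Groth.Agent.CrvPic30

variable {k : Type u} [Field k] {C : Scheme.{u}} [C.Over (Spec (CommRingCat.of k))] [IsIntegral C]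

attribute [local instance] ffAlg

namespace Setup

open Var76.LineBundle

theorem curveCoh (h : Setup k C) : Crv77.CurveCoh k C :=
  have := h.proper
  Crv77.curveCoh_of_proper k C h.dim.le

theorem isNoetherian (h : Setup k C) : IsNoetherian C :=
  have := h.proper
  Crv77.isNoetherian_of_proper (k := k) (X := C)

omit [IsIntegral C] in
theorem deg_congr {M N : C.Modules} (e : M ≅ N) : Curv2.deg k C M 1 = Curv2.deg k C N 1 := by
  simp only [Curv2.deg, Crv77.euler_congr (k := k) e]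

omit [IsIntegral C] in
theorem h0_congr {M N : C.Modules} (e : M ≅ N) :
    Module.finrank k (Coh.HH C M 0) = Module.finrank k (Coh.HH C N 0) :=
  (Crv77.hEquiv k e 0).finrank_eq

theorem nonempty_iso_O_neg_div (h : Setup k C) {z : C.functionField} (hz : z ≠ 0) :
    Nonempty (Coh.structureModule C ≅ h.O (-div k z)) := by
  have hv : ∀ (y : C) (hy : IsClosed ({y} : Set C)),
      (h.place ⟨y, hy⟩).1 z = WithZero.exp ((-div k z) (h.place ⟨y, hy⟩)) := fun y hy => by
    rw [Finsupp.neg_apply, h.ffield.div_apply, FF30.val_eq _ hz]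
  obtain ⟨t, ht⟩ := exists_rval_eq (h := h) (D := -div k z) (U := ⊤) trivial z fun y hy _ => (hv y hy).le
  have := Crv77.isIso_unitHom_of_isFrame (isFrame_of_rval (U := ⊤)
    (show genericPoint C ∈ (⊤ : C.Opens) from trivial) t (by rw [ht]; exact hz) fun y hy _ => by rw [ht]; exact hv y hy)
  exact ⟨asIso (EGA73.unitHom _ t)⟩

set_option maxHeartbeats 1600000 in
theorem nonempty_iso_of_sub_mem (h : Setup k C) {D E : Divisor k C.functionField}
    (hDE : D - E ∈ prinDivs k C.functionField) : Nonempty (h.O D ≅ h.O E) := by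
  obtain ⟨z, hz, hzD⟩ := (FF30.mem_prinDivs_iff h.ffield).1 hDE
  obtain ⟨e₁⟩ := h.nonempty_iso_O_neg_div hz
  obtain ⟨e₂⟩ := h.nonempty_iso_tensor (-div k z) D
  have hE : -div k z + D = E := by rw [← hzD, neg_sub, sub_add_cancel]
  rw [hE] at e₂
  let e₀ : h.O D ≅ CohB1.tensorMod (Coh.structureModule C) (h.O D) := (EGA73.tensUnitLeft (h.O D)).symm
  let e₃ : CohB1.tensorMod (Coh.structureModule C) (h.O D) ≅ CohB1.tensorMod (h.O (-div k z)) (h.O D) :=
    (Crv77.twist (h.O D)).mapIso e₁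
  exact ⟨e₀.trans (e₃.trans e₂)⟩

theorem deg_O_add (h : Setup k C) (D E : Divisor k C.functionField) :
    Curv2.deg k C (h.O (D + E)) 1 = Curv2.deg k C (h.O D) 1 + Curv2.deg k C (h.O E) 1 := by
  have := h.isNoetherian
  obtain ⟨e⟩ := h.nonempty_iso_tensor D E
  rw [← deg_congr e, h.curveCoh.deg_tensorMod h.dim.le (h.isInvertible_O D) (h.isInvertible_O E)]

/-- The degree of `O(D)` as a homomorphism. -/
noncomputable def degO (h : Setup k C) : Divisor k C.functionField →+ ℤ :=
  AddMonoidHom.mk' (fun D => Curv2.deg k C (h.O D) 1) h.deg_O_add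

theorem degO_apply (h : Setup k C) (D : Divisor k C.functionField) : h.degO D = Curv2.deg k C (h.O D) 1 := rfl

set_option maxHeartbeats 1600000 in
theorem degO_pos_aux (h : Setup k C) {D : Divisor k C.functionField} (hD : 0 < D.deg) :
    h.degO D = D.deg ∧ Curv2.genus k C = genus k C.functionField := by
  have := h.isNoetherian
  set g := genus k C.functionField
  set gC := Curv2.genus k C
  set φ := h.degO D
  have hφn : ∀ n : ℕ, Curv2.deg k C (h.O (n • D)) 1 = n * φ := fun n => by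
    rw [← degO_apply, map_nsmul, nsmul_eq_mul]
  have hdn : ∀ n : ℕ, ((n • D : Divisor k C.functionField)).deg = n * D.deg := fun n => by
    rw [← FF30.degHom_eq, map_nsmul, FF30.degHom_eq, nsmul_eq_mul]
  have hell : ∀ n : ℕ, 2 * g ≤ n → (ell (n • D) : ℤ) = n * D.deg + 1 - g := fun n hn => by
    rw [FF30.ell_eq_of_deg_gt h.ff ?_, hdn]
    rw [hdn]
    have : (n : ℤ) * 1 ≤ n * D.deg := mul_le_mul_of_nonneg_left hD (Int.natCast_nonneg n)
    omega
  have hφ : 0 < φ := by
    by_contra hle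
    rw [not_lt] at hle
    set n := 2 * g + g + 1 with hn
    have h1 := hell n (by omega)
    have hge : (n : ℤ) * 1 ≤ n * D.deg := mul_le_mul_of_nonneg_left hD (Int.natCast_nonneg n)
    have hs : Nontrivial (Coh.HH C (h.O (n • D)) 0) :=
      Module.nontrivial_of_finrank_pos (R := k) (by rw [h.finrank_h0_O]; omega)
    have h2 := h.curveCoh.h0_le_deg_add_one h.dim.le h.finrank_h0_structureModule (h.isInvertible_O _) hs
    simp only [Crv77.h, h.finrank_h0_O, hφn] at h2
    have : (n : ℤ) * φ ≤ 0 := mul_nonpos_of_nonneg_of_nonpos (Int.natCast_nonneg n) hle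
    omega
  have key : ∀ n : ℕ, 2 * g ≤ n → 2 * gC ≤ n → (n : ℤ) * φ - gC = n * D.deg - g := fun n hn hnC => by
    have h1 := hell n hn
    have hdeg : 2 * (gC : ℤ) - 2 < Curv2.deg k C (h.O (n • D)) 1 := by
      rw [hφn]
      have : (n : ℤ) * 1 ≤ n * φ := mul_le_mul_of_nonneg_left hφ (Int.natCast_nonneg n)
      omega
    have hH1 := h.curveCoh.h1_eq_zero_of_deg_gt h.dim h.finrank_h0_structureModule (h.isInvertible_O _) hdeg
    have e := h.curveCoh.riemann h.finrank_h0_structureModule (Crv77.isCoh_of_isInvertible (h.isInvertible_O (n • D)))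
    have hz : Module.finrank k (Coh.HH C (h.O (n • D)) 1) = 0 := Module.finrank_zero_of_subsingleton
    simp only [Crv77.h, h.finrank_h0_O, hz, hφn] at e
    omega
  set n := 2 * g + 2 * gC
  have k1 := key n (by omega) (by omega)
  have k2 := key (n + 1) (by omega) (by omega)
  push_cast at k2
  have hφD : φ = D.deg := by linarith
  refine ⟨hφD, ?_⟩
  rw [hφD] at k1
  omega

theorem deg_O (h : Setup k C) (D : Divisor k C.functionField) : Curv2.deg k C (h.O D) 1 = D.deg := by
  obtain ⟨P⟩ := h.ffield.nonempty_place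
  have hP : 0 < Divisor.deg (Finsupp.single P (1 : ℤ) : Divisor k C.functionField) := by
    simp only [Divisor.deg, Finsupp.sum_single_index, zero_mul, one_mul]
    exact_mod_cast h.ffield.deg_pos P
  set E : Divisor k C.functionField := Finsupp.single P (1 : ℤ)
  obtain ⟨m, hm⟩ : ∃ m : ℕ, 0 < D.deg + m * E.deg := ⟨D.deg.natAbs + 1, by push_cast; nlinarith [abs_nonneg D.deg, neg_abs_le D.deg]⟩
  have hpos : 0 < (D + m • E).deg := by
    rw [← FF30.degHom_eq, map_add, map_nsmul, FF30.degHom_eq, FF30.degHom_eq, nsmul_eq_mul]; exact hm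
  have h1 := (h.degO_pos_aux hpos).1
  rw [map_add, map_nsmul, (h.degO_pos_aux hP).1, ← FF30.degHom_eq (D := D + m • E), map_add, map_nsmul,
    FF30.degHom_eq, FF30.degHom_eq, add_left_inj] at h1
  exact h1

theorem genus_eq (h : Setup k C) : Curv2.genus k C = genus k C.functionField := by
  obtain ⟨P⟩ := h.ffield.nonempty_place
  refine (h.degO_pos_aux (D := Finsupp.single P (1 : ℤ)) ?_).2
  simp only [Divisor.deg, Finsupp.sum_single_index, zero_mul, one_mul]
  exact_mod_cast h.ffield.deg_pos P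

set_option maxHeartbeats 1600000 in
theorem sub_mem_of_iso (h : Setup k C) {D E : Divisor k C.functionField} (e : h.O D ≅ h.O E) :
    D - E ∈ prinDivs k C.functionField := by
  obtain ⟨e₁⟩ := h.nonempty_iso_tensor D (-E)
  obtain ⟨e₂⟩ := h.nonempty_iso_tensor E (-E)
  have i : h.O (D - E) ≅ h.O 0 :=
    eqToIso (by rw [sub_eq_add_neg]) ≪≫ e₁.symm ≪≫ (Crv77.twist (h.O (-E))).mapIso e ≪≫ e₂ ≪≫ eqToIso (by rw [add_neg_cancel])
  have hdeg : (D - E).deg = 0 := by
    rw [← h.deg_O, deg_congr i, h.deg_O]; simp [Divisor.deg]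
  have hell : ell (D - E) = 1 := by
    rw [← h.finrank_h0_O, h0_congr i, h.finrank_h0_O, FF30.ell_zero h.ff]
  obtain ⟨z, hz, hz0⟩ := Submodule.exists_mem_ne_zero_of_ne_bot (p := L (D - E)) fun hb => by
    rw [ell, hb, finrank_bot] at hell; exact zero_ne_one hell
  have hnn : 0 ≤ (D - E) + div k z := fun P => by
    rw [Finsupp.add_apply, h.ffield.div_apply]
    have := (FF30.val_le_exp_iff P hz0 ((D - E) P)).1 (hz P)
    show (0 : Divisor k C.functionField) P ≤ _
    rw [Finsupp.zero_apply]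
    omega
  have hd0 : ((D - E) + div k z).deg = 0 := by
    rw [← FF30.degHom_eq, map_add, FF30.degHom_eq, FF30.degHom_eq, hdeg, h.ffield.deg_div, add_zero]
  have hz1 : (D - E) + div k z = 0 := (h.ffield.eq_of_le_of_deg_le hnn (by rw [hd0]; simp [Divisor.deg])).symm
  rw [eq_neg_of_add_eq_zero_left hz1]
  exact neg_mem (FF30.div_mem_prinDivs z)

theorem nonempty_iso_iff (h : Setup k C) (D E : Divisor k C.functionField) :
    Nonempty (h.O D ≅ h.O E) ↔ D - E ∈ prinDivs k C.functionField :=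
  ⟨fun ⟨e⟩ => h.sub_mem_of_iso e, h.nonempty_iso_of_sub_mem⟩

section Surjective

variable (h : Setup k C) {L : C.Modules} {U₀ : C.Opens} {e₀ : Γ(L, U₀)} (he₀ : IsFrame L U₀ e₀)
  (hη₀ : genericPoint C ∈ U₀)

/-- The coordinate of a section at the generic point. -/
noncomputable def coord (U : C.Opens) (hU : genericPoint C ∈ U) (t : Γ(L, U)) : C.functionField :=
  C.presheaf.germ (U ⊓ U₀) (genericPoint C) ⟨hU, hη₀⟩
    ((he₀ (U ⊓ U₀) inf_le_right).2 (res L inf_le_left t)).choose

theorem coord_spec {U : C.Opens} (hU : genericPoint C ∈ U) (t : Γ(L, U)) (V : C.Opens) (hVU : V ≤ U)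
    (hV0 : V ≤ U₀) (hV : genericPoint C ∈ V) (c : Γ(C, V)) (hc : c • res L hV0 e₀ = res L hVU t) :
    coord he₀ hη₀ U hU t = C.presheaf.germ V (genericPoint C) hV c := by
  have hs := ((he₀ (U ⊓ U₀) inf_le_right).2 (res L inf_le_left t)).choose_spec
  set c₁ := ((he₀ (U ⊓ U₀) inf_le_right).2 (res L inf_le_left t)).choose
  have e1 := congrArg (res L (le_inf hVU hV0 : V ≤ U ⊓ U₀)) hs
  dsimp only at e1
  rw [res_smul, res_res, res_res] at e1
  have e2 := (he₀ V hV0).1 (e1.trans hc.symm)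
  show C.presheaf.germ (U ⊓ U₀) _ _ c₁ = _
  rw [← e2, TopCat.Presheaf.germ_res_apply]

theorem coord_res {U V : C.Opens} (hVU : V ≤ U) (hV : genericPoint C ∈ V) (t : Γ(L, U)) :
    coord he₀ hη₀ V hV (res L hVU t) = coord he₀ hη₀ U (hVU hV) t := by
  obtain ⟨c, hc⟩ := (he₀ (V ⊓ U₀) inf_le_right).2 (res L inf_le_left (res L hVU t))
  rw [coord_spec he₀ hη₀ hV (res L hVU t) _ inf_le_left inf_le_right ⟨hV, hη₀⟩ c hc,
    coord_spec he₀ hη₀ (hVU hV) t _ (inf_le_left.trans hVU) inf_le_right ⟨hV, hη₀⟩ c (by rw [res_res] at hc; exact hc)]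

theorem coord_smul {U : C.Opens} (hU : genericPoint C ∈ U) (r : Γ(C, U)) (t : Γ(L, U)) :
    coord he₀ hη₀ U hU (r • t) = C.presheaf.germ U (genericPoint C) hU r * coord he₀ hη₀ U hU t := by
  obtain ⟨c, hc⟩ := (he₀ (U ⊓ U₀) inf_le_right).2 (res L inf_le_left t)
  rw [coord_spec he₀ hη₀ hU t _ inf_le_left inf_le_right ⟨hU, hη₀⟩ c hc,
    coord_spec he₀ hη₀ hU (r • t) _ inf_le_left inf_le_right ⟨hU, hη₀⟩
      (C.presheaf.map (homOfLE (inf_le_left : U ⊓ U₀ ≤ U)).op r * c) (by rw [res_smul, mul_smul]; exact congrArg _ hc),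
    map_mul]
  exact congrArg (· * _) (C.presheaf.germ_res_apply (homOfLE (inf_le_left : U ⊓ U₀ ≤ U)) (genericPoint C) ⟨hU, hη₀⟩ r)

theorem coord_add {U : C.Opens} (hU : genericPoint C ∈ U) (t t' : Γ(L, U)) :
    coord he₀ hη₀ U hU (t + t') = coord he₀ hη₀ U hU t + coord he₀ hη₀ U hU t' := by
  obtain ⟨c, hc⟩ := (he₀ (U ⊓ U₀) inf_le_right).2 (res L inf_le_left t)
  obtain ⟨c', hc'⟩ := (he₀ (U ⊓ U₀) inf_le_right).2 (res L inf_le_left t')
  rw [coord_spec he₀ hη₀ hU t _ inf_le_left inf_le_right ⟨hU, hη₀⟩ c hc,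
    coord_spec he₀ hη₀ hU t' _ inf_le_left inf_le_right ⟨hU, hη₀⟩ c' hc',
    coord_spec he₀ hη₀ hU (t + t') _ inf_le_left inf_le_right ⟨hU, hη₀⟩ (c + c') (by
      rw [add_smul]
      exact (congrArg₂ (· + ·) hc hc').trans (map_add (L.presheaf.map (homOfLE inf_le_left).op).hom t t').symm),
    map_add]

theorem coord_frame_ne_zero {U : C.Opens} (hU : genericPoint C ∈ U) {e : Γ(L, U)} (he : IsFrame L U e) :
    coord he₀ hη₀ U hU e ≠ 0 := by
  have hV : genericPoint C ∈ U ⊓ U₀ := ⟨hU, hη₀⟩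
  obtain ⟨d, hd⟩ := (he (U ⊓ U₀) inf_le_left).2 (res L inf_le_right e₀)
  intro h0
  have h1 : coord he₀ hη₀ (U ⊓ U₀) hV (res L inf_le_right e₀) = 1 := by
    rw [coord_spec he₀ hη₀ hV (res L inf_le_right e₀) _ le_rfl inf_le_right hV 1
      (by rw [one_smul, res_res]), map_one]
  rw [← hd, coord_smul, coord_res, h0, mul_zero] at h1
  exact zero_ne_one h1

include h he₀ hη₀ in
set_option maxHeartbeats 1600000 in
theorem exists_iso_O_of_frame (hL : PicF.IsInvertible L) :
    ∃ D : Divisor k C.functionField, Nonempty (L ≅ h.O D) := by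
  classical
  have := h.proper
  have := h.isNoetherian
  have hfr : ∀ x : C, ∃ U : C.Opens, x ∈ U ∧ ∃ e : Γ(L, U), IsFrame L U e := Mero90.exists_frame' hL
  choose U hxU e he using hfr
  let v : C → C.functionField := fun x => coord he₀ hη₀ (U x) (gen_mem (hxU x)) (e x)
  have hv : ∀ x, v x ≠ 0 := fun x => coord_frame_ne_zero he₀ hη₀ _ (he x)
  have hchange : ∀ (x : C) (V : C.Opens) (hy : genericPoint C ∈ V) (t : Γ(L, V)) (y : C), y ∈ V → y ∈ U x →
      ∀ hcl : IsClosed ({y} : Set C),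
      (h.place ⟨y, hcl⟩).1 (coord he₀ hη₀ V hy t) ≤ (h.place ⟨y, hcl⟩).1 (v x) := by
    intro x V hy t y hyV hyU hcl
    obtain ⟨c, hc⟩ := (he x (V ⊓ U x) inf_le_right).2 (res L inf_le_left t)
    have hη : genericPoint C ∈ V ⊓ U x := gen_mem (y := y) ⟨hyV, hyU⟩
    have h1 := coord_res he₀ hη₀ (inf_le_left : V ⊓ U x ≤ V) hη t
    rw [← hc, coord_smul, coord_res] at h1
    rw [← h1, map_mul]
    exact (mul_le_mul' ((h.place_le_one_iff ⟨y, hcl⟩ (C.presheaf.germ (V ⊓ U x) (genericPoint C) hη c)).2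
      ⟨C.presheaf.germ (V ⊓ U x) y ⟨hyV, hyU⟩ c, Curves2.algebraMap_germ y (⟨hyV, hyU⟩ : y ∈ V ⊓ U x) c⟩)
      le_rfl).trans_eq (one_mul _)
  have heq : ∀ (x y : C) (hcl : IsClosed ({y} : Set C)), y ∈ U x →
      (h.place ⟨y, hcl⟩).1 (v x) = (h.place ⟨y, hcl⟩).1 (v y) := fun x y hcl hy =>
    le_antisymm (hchange y (U x) (gen_mem (hxU x)) (e x) y hy (hxU y) hcl)
      (hchange x (U y) (gen_mem (hxU y)) (e y) y (hxU y) hy hcl)
  let d : Place k C.functionField → ℤ := fun P => -P.ord (v (h.place.symm P).1)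
  have hd : ∀ (y : C) (hcl : IsClosed ({y} : Set C)),
      WithZero.exp (d (h.place ⟨y, hcl⟩)) = (h.place ⟨y, hcl⟩).1 (v y) := fun y hcl => by
    simp only [d, Equiv.symm_apply_apply]
    exact (FF30.val_eq _ (hv y)).symm
  obtain ⟨F, hF⟩ := isCompact_univ.elim_finite_subcover (fun x => (U x : Set C)) (fun x => (U x).2)
    (fun x _ => Set.mem_iUnion.2 ⟨x, hxU x⟩)
  have hfin : (Function.support d).Finite := by
    refine (F.biUnion fun x => (div k (v x)).support).finite_toSet.subset fun P hP => ?_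
    obtain ⟨x, hx, hyx⟩ := Set.mem_iUnion₂.1 (hF (Set.mem_univ (h.place.symm P).1))
    rw [Finset.mem_coe, Finset.mem_biUnion]
    refine ⟨x, hx, Finsupp.mem_support_iff.2 fun h0 => hP ?_⟩
    have h1 := heq x _ (h.place.symm P).2 hyx
    rw [Subtype.coe_eta, Equiv.apply_symm_apply, FF30.val_eq _ (hv _), FF30.val_eq _ (hv _), WithZero.exp_inj,
      ← h.ffield.div_apply (v x), h0] at h1
    exact h1.symm
  let D : Divisor k C.functionField := Finsupp.ofSupportFinite d hfin
  have hbound : ∀ (V : C.Opens) (t : Γ(L, V)) (x : V) (hx : IsClosed ({x.1} : Set C)),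
      (h.place ⟨x.1, hx⟩).1 (coord he₀ hη₀ V (gen_mem x.2) t) ≤ WithZero.exp (D (h.place ⟨x.1, hx⟩)) :=
    fun V t x hx => (hchange x.1 V (gen_mem x.2) t x.1 x.2 (hxU x.1) hx).trans_eq (hd x.1 hx).symm
  let φ : L ⟶ h.O D :=
    ⟨PresheafOfModules.homMk (M₁ := L.val) (M₂ := (h.O D).val)
      { app := fun V => AddCommGrpCat.ofHom
          { toFun := fun (t : Γ(L, V.unop)) =>
              (⟨fun y => coord he₀ hη₀ V.unop (gen_mem y.2) t, fun _ _ => rfl,
                fun x hx => hbound V.unop t x hx⟩ : Γ(h.O D, V.unop))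
            map_zero' := Subtype.ext (funext fun y => by
              have := coord_add he₀ hη₀ (gen_mem y.2) (0 : Γ(L, V.unop)) 0
              rw [add_zero] at this
              exact left_eq_add.1 this)
            map_add' := fun t t' => Subtype.ext (funext fun y => coord_add he₀ hη₀ (gen_mem y.2) t t') }
        naturality := fun {V W} i => by
          ext t
          exact Subtype.ext (funext fun y => coord_res he₀ hη₀ i.unop.le (gen_mem y.2) t) }
      (fun V r t => Subtype.ext (funext fun y => by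
        have e1 := coord_smul he₀ hη₀ (gen_mem y.2) r t
        refine e1.trans ?_
        rw [← Curves2.algebraMap_germ y.1 y.2 r]
        exact (@Algebra.smul_def (C.presheaf.stalk y.1) C.functionField _ _
          (stalkFunctionFieldAlgebra C y.1) _ _).symm))⟩
  have hval : ∀ (V : C.Opens) (hV : genericPoint C ∈ V) (t : Γ(L, V)),
      rval hV (φ.app V t) = coord he₀ hη₀ V hV t := fun _ _ _ => rfl
  have hframe : ∀ x, IsFrame (h.O D) (U x) (φ.app (U x) (e x)) := fun x => by
    refine isFrame_of_rval (gen_mem (hxU x)) _ (by rw [hval]; exact hv x) fun y hy hyU => ?_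
    rw [hval]
    exact (heq x y hy hyU).trans (hd y hy).symm
  have happ : ∀ (x : C) (V : C.Opens) (hV : V ≤ U x) (c : Γ(C, V)),
      φ.app V (c • res L hV (e x)) = c • res (h.O D) hV (φ.app (U x) (e x)) := fun x V hV c =>
    (Scheme.Modules.Hom.app_smul φ c _).trans (congrArg (c • ·) (QC70.app_res φ hV (e x)))
  have hbij : ∀ (x : C) (V : C.Opens), V ≤ U x → Function.Bijective (φ.app V) := fun x V hV => by
    constructor
    · intro s s' hss
      obtain ⟨c, rfl⟩ := (he x V hV).2 s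
      obtain ⟨c', rfl⟩ := (he x V hV).2 s'
      dsimp only at hss
      rw [happ, happ] at hss
      rw [(hframe x V hV).1 hss]
    · intro s
      obtain ⟨c, hc⟩ := (hframe x V hV).2 s
      exact ⟨_, (happ x V hV c).trans hc⟩
  have : Mono φ := QC70.mono_of_app_injective φ fun W a b hab => QC70.section_ext L a b fun p hp => by
    refine ⟨W ⊓ U p, inf_le_left, ⟨hp, hxU p⟩, (hbij p _ inf_le_right).1 ?_⟩
    rw [QC70.app_res, QC70.app_res, hab]
  have : Epi φ := QC70.epi_of_locally_surjective φ fun W t p hp => by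
    obtain ⟨s, hs⟩ := (hbij p (W ⊓ U p) inf_le_right).2 (QC70.res (h.O D) inf_le_left t)
    exact ⟨W ⊓ U p, inf_le_left, s, ⟨hp, hxU p⟩, hs⟩
  have := isIso_of_mono_of_epi φ
  exact ⟨D, ⟨asIso φ⟩⟩

end Surjective

theorem exists_iso_O (h : Setup k C) {L : C.Modules} (hL : PicF.IsInvertible L) :
    ∃ D : Divisor k C.functionField, Nonempty (L ≅ h.O D) := by
  obtain ⟨U₀, hη₀, e₀, he₀⟩ := Mero90.exists_frame' hL (genericPoint C)
  exact h.exists_iso_O_of_frame he₀ hη₀ hL

/-- Riemann-Roch on the curve. -/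
theorem riemann_roch (h : Setup k C) {K₀ : Divisor k C.functionField} (hK : IsCanonical k C.functionField K₀)
    (D : Divisor k C.functionField) :
    Module.finrank k (Coh.HH C (h.O D) 1) = ell (K₀ - D) := by
  have := h.isNoetherian
  have e := h.curveCoh.riemann h.finrank_h0_structureModule (Crv77.isCoh_of_isInvertible (h.isInvertible_O D))
  have e2 := FF30.riemann_roch' h.ff hK D
  simp only [Crv77.h, h.finrank_h0_O, h.deg_O, h.genus_eq] at e
  omega

end Setup

end Groth.Agent.CrvPic30
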