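import Groth.Agent.Res31.Pairing
import Groth.Agent.SV31.Deg
import Groth.Agent.FF30.Differentials
import Groth.Agent.FF30.Geometric
import Groth.Agent.Exp31.Laurent
import Groth.Agent.Diff31.Local

/-! A canonical divisor from a differential, with the derivation along it. -/

set_option autoImplicit false
set_option linter.style.haveILetI false

universe u v

open FunFld WithZero
open scoped LaurentSeries

namespace Groth.Agent.CrvPic30

variable {k : Type u} [Field k] [IsAlgClosed k] {K : Type v} [Field K] [Algebra k K]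

/-- The divisor `W` of a differential `dx` and the derivation `δx = d/dx`. -/
theorem exists_canonical_derivation (hK : IsFunctionField k K) :
    ∃ (W : Divisor k K) (δx : Derivation k K K), IsCanonical k K W ∧
      (∀ (P : Place k K) (a : K), P.1 a ≤ 1 → P.1 (δx a) ≤ exp (W P)) ∧
      ∀ (P : Place k K) (t : K), P.1 t = exp (-1) → P.1 (δx t) = exp (W P) := by
  have hg : IsGeometric k K := FF30.isGeometric_of_closed hK.2
  obtain ⟨x, -, hx⟩ := FF30.exists_kaehlerD_ne_zero hK hg
  obtain ⟨Φ, hΦ⟩ := SV31.exists_expansion_family hK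
  obtain ⟨W, hW, hWeil, hne⟩ := Res31.exists_weil hK hg hΦ one_ne_zero hx
  have h1 := FF30.finrank_kaehler hK hg
  have hc : ∀ ω : KaehlerDifferential k K, ∃ c : K, c • KaehlerDifferential.D k K x = ω :=
    fun ω => exists_smul_eq_of_finrank_eq_one h1 hx ω
  choose c hc using hc
  have hinj : ∀ a b : K, a • KaehlerDifferential.D k K x = b • KaehlerDifferential.D k K x → a = b :=
    fun a b h => smul_left_injective K hx h
  let co : KaehlerDifferential k K →ₗ[K] K :=
    { toFun := c
      map_add' := fun a b => hinj _ _ (by rw [hc, add_smul, hc, hc])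
      map_smul' := fun r a => hinj _ _ (by rw [hc, RingHom.id_apply, smul_eq_mul, mul_smul, hc]) }
  let δx : Derivation k K K := co.compDer (KaehlerDifferential.D k K)
  have hchain : ∀ (P : Place k K) (z : K),
      LocRes.D k (Φ P z) = Φ P (δx z) * LocRes.D k (Φ P x) := fun P z => by
    letI : Algebra K k⸨X⸩ := (Φ P).toRingHom.toAlgebra
    have : IsScalarTower k K k⸨X⸩ := ⟨fun a b z => by
      rw [Algebra.smul_def (R := K), Algebra.smul_def (R := K)]
      show Φ P (a • b) * z = a • (Φ P b * z)
      rw [Algebra.smul_def a b, map_mul, LocRes.map_algebraMap, Algebra.algebraMap_self_apply, mul_assoc,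
        HahnSeries.C_mul_eq_smul]⟩
    let δ : Derivation k K k⸨X⸩ := (LocRes.D k).compAlgebraMap K
    have e1 : δ.liftKaehlerDifferential (KaehlerDifferential.D k K z) = LocRes.D k (Φ P z) :=
      δ.liftKaehlerDifferential_comp_D z
    rw [← hc (KaehlerDifferential.D k K z), map_smul, δ.liftKaehlerDifferential_comp_D x,
      Algebra.smul_def] at e1
    exact e1.symm
  have hval : ∀ (P : Place k K) (z : K),
      Valued.v (LocRes.D k (Φ P z)) = P.1 (δx z) * exp (-(W P)) := fun P z => by
    rw [hchain, map_mul, (hΦ P).1, hW P, LocRes.ordDiff, neg_neg]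
    congr 1
    rw [exp_log (Res31.vDiff_ne_zero hK hg hΦ one_ne_zero hx P), LocRes.vDiff, map_one, one_mul]
  refine ⟨W, δx, ⟨_, hne, Res31.isDivOf_resW hK hg hΦ one_ne_zero hx hW⟩, fun P a ha => ?_, fun P t ht => ?_⟩
  · have h := Diff31.val_D_le_one (f := Φ P a) (((hΦ P).1 a).trans_le ha)
    rw [hval] at h
    calc P.1 (δx a) = P.1 (δx a) * exp (-(W P)) * exp (W P) := by
          rw [mul_assoc, ← exp_add, neg_add_cancel, exp_zero, mul_one]
      _ ≤ 1 * exp (W P) := mul_le_mul' h le_rfl
      _ = exp (W P) := one_mul _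
  · have h := Exp31.val_D_eq (f := Φ P t) (e := 1) (((hΦ P).1 t).trans ht) (by simp)
    rw [hval, sub_self, neg_zero, exp_zero] at h
    calc P.1 (δx t) = P.1 (δx t) * exp (-(W P)) * exp (W P) := by
          rw [mul_assoc, ← exp_add, neg_add_cancel, exp_zero, mul_one]
      _ = exp (W P) := by rw [h, one_mul]

end Groth.Agent.CrvPic30
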