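import Groth.Agent.CrvPic30.Classify
import Groth.Agent.CrvPic30.OmegaFF
import Groth.Agent.Var76.OmegaRegular
import Groth.Agent.Var76.OmegaUniv
import Groth.Agent.FlatMor68.DedekindFlat

/-! The sheaf of differentials of a curve over an algebraically closed field is canonical. -/

set_option autoImplicit false
set_option linter.style.haveILetI false

universe u

open CategoryTheory AlgebraicGeometry TopologicalSpace Opposite FunFld

namespace Groth.Agent.CrvPic30

variable {k : Type u} [Field k] {C : Scheme.{u}} [C.Over (Spec (CommRingCat.of k))] [IsIntegral C]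

attribute [local instance] ffAlg

theorem valuationRing_of_regular (hdim : topologicalKrullDim C ≤ 1)
    (hreg : ∀ x : C, IsRegularLocalRing (C.presheaf.stalk x)) (y : C) :
    ∃ _ : IsDomain (C.presheaf.stalk y), ValuationRing (C.presheaf.stalk y) := by
  have := hreg y
  have := FlatMor68.DedekindFlat.isPrincipalIdealRing_of_regular (C.presheaf.stalk y)
    ((FlatMor68.DedekindFlat.stalk_dim_le y).trans hdim)
  exact ⟨inferInstance, inferInstance⟩

/-- Curves over an algebraically closed field. -/
theorem setup_of_regular [IsAlgClosed k] [IsProper (C ↘ Spec (CommRingCat.of k))]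
    (hdim : topologicalKrullDim C = 1) (hreg : ∀ x : C, IsRegularLocalRing (C.presheaf.stalk x)) :
    Setup k C :=
  ⟨inferInstance, hdim, valuationRing_of_regular hdim.le hreg,
    ⟨Cyc90.ff_functionField (C ↘ Spec (CommRingCat.of k)) hdim, fun a ha =>
      IsAlgClosed.algebraMap_bijective_of_isIntegral.2 (⟨a, ha.isIntegral⟩ : integralClosure k C.functionField)
        |>.elim fun r hr => ⟨r, congrArg Subtype.val hr⟩⟩⟩

theorem setup_of_smooth_algClosed [IsAlgClosed k] [IsProper (C ↘ Spec (CommRingCat.of k))]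
    [Smooth (C ↘ Spec (CommRingCat.of k))] (hdim : topologicalKrullDim C = 1) : Setup k C :=
  ⟨inferInstance, hdim, CrvFF30.stalks_valuationRing (C ↘ Spec (CommRingCat.of k)) hdim,
    ⟨Cyc90.ff_functionField (C ↘ Spec (CommRingCat.of k)) hdim, fun a ha =>
      IsAlgClosed.algebraMap_bijective_of_isIntegral.2 (⟨a, ha.isIntegral⟩ : integralClosure k C.functionField)
        |>.elim fun r hr => ⟨r, congrArg Subtype.val hr⟩⟩⟩

namespace Setup

open Var76.LineBundle

variable [IsAlgClosed k]

theorem regular (h : Setup k C) (x : C) : IsRegularLocalRing (C.presheaf.stalk x) := by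
  obtain ⟨_, _⟩ := h.stalks x
  have := h.isNoetherian
  have hN : IsNoetherianRing (C.presheaf.stalk x) := inferInstance
  have : IsPrincipalIdealRing (C.presheaf.stalk x) := ((IsBezout.TFAE (R := C.presheaf.stalk x)).out 0 1).1 hN
  infer_instance

theorem isInvertible_omega (h : Setup k C) [QuasiSeparated (C ↘ Spec (CommRingCat.of k))] :
    PicF.IsInvertible (Omega.sheaf (C ↘ Spec (CommRingCat.of k))) := fun x => by
  have := h.proper
  obtain ⟨U, hU, ⟨φ⟩⟩ := ((Var76.OmegaRegular.main (k := k) (X := C) 1 (by exact_mod_cast h.dim)).2 h.regular) x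
  exact ⟨U, hU, ⟨φ ≪≫ Limits.coproductUniqueIso _⟩⟩

theorem nonempty_iso_omega (h : Setup k C) [QuasiSeparated (C ↘ Spec (CommRingCat.of k))] :
    ∃ W : Divisor k C.functionField, IsCanonical k C.functionField W ∧
      Nonempty (Omega.sheaf (C ↘ Spec (CommRingCat.of k)) ≅ h.O W) := by
  classical
  have := h.proper
  let f := C ↘ Spec (CommRingCat.of k)
  have : CompactSpace C := QuasiCompact.compactSpace_of_compactSpace f
  obtain ⟨W, δ, hW, hle, heq⟩ := exists_canonical_derivation h.ff
  have hreg : ∀ (U : C.Opens) (a : Γ(C, U)) (x : U) (hx : IsClosed ({x.1} : Set C)),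
      (h.place ⟨x.1, hx⟩).1 (δ (C.presheaf.germ U (genericPoint C) (gen_mem x.2) a)) ≤
        WithZero.exp (W (h.place ⟨x.1, hx⟩)) := fun U a x hx =>
    hle _ _ ((h.mem_range_germ_iff U (gen_mem x.2) _).1 ⟨a, rfl⟩ x.1 hx x.2)
  let D : OmegaSh.Der f (h.O W) :=
    { d := fun {U} => AddMonoidHom.mk' (fun (a : Γ(C, U.unop)) =>
        (⟨fun y => δ (C.presheaf.germ U.unop (genericPoint C) (gen_mem y.2) a), fun _ _ => rfl,
          fun y hy => hreg U.unop a y hy⟩ : Γ(h.O W, U.unop)))
        fun a b => Subtype.ext (funext fun y => by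
          show δ _ = δ _ + δ _
          rw [map_add, map_add])
      d_mul := fun {U} a b => Subtype.ext (funext fun y => by
        show δ (C.presheaf.germ U.unop (genericPoint C) (gen_mem y.2) (a * b)) =
          C.presheaf.germ U.unop y.1 y.2 a • δ (C.presheaf.germ U.unop (genericPoint C) (gen_mem y.2) b) +
          C.presheaf.germ U.unop y.1 y.2 b • δ (C.presheaf.germ U.unop (genericPoint C) (gen_mem y.2) a)
        rw [map_mul, Derivation.leibniz, Algebra.smul_def, Algebra.smul_def, Algebra.smul_def, Algebra.smul_def,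
          Curves2.algebraMap_germ, Curves2.algebraMap_germ, Algebra.algebraMap_self_apply,
          Algebra.algebraMap_self_apply])
      d_map := fun {U V} i a => Subtype.ext (funext fun y =>
        congrArg δ (C.presheaf.germ_res_apply i.unop (genericPoint C) (gen_mem y.2) a))
      d_app := fun {V} a => Subtype.ext (funext fun y => by
        show δ (C.presheaf.germ (f ⁻¹ᵁ V.unop) (genericPoint C) (gen_mem y.2) (f.app V.unop a)) = 0
        have hV : V.unop = ⊤ := eq_top_iff.2 fun z _ => by
          have := y.2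
          rw [Subsingleton.elim z (f y.1)]
          exact this
        obtain ⟨V⟩ := V
        obtain rfl : V = ⊤ := hV
        obtain ⟨r, rfl⟩ := (ConcreteCategory.bijective_of_isIso (Scheme.ΓSpecIso (CommRingCat.of k)).inv).2 a
        have e := RingHom.congr_fun (kStalk_eq_stalkMap f (genericPoint C)) r
        show δ (C.presheaf.germ ⊤ (genericPoint C) trivial (f.appTop ((Scheme.ΓSpecIso (CommRingCat.of k)).inv r))) = 0
        rw [show C.presheaf.germ ⊤ (genericPoint C) trivial (f.appTop ((Scheme.ΓSpecIso (CommRingCat.of k)).inv r)) =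
          algebraMap k C.functionField r from e.symm, Derivation.map_algebraMap]) }
  obtain ⟨α, hα, -⟩ := Var76.OmegaUniv.isUniversal f (h.O W) D
  have hd : ∀ (U : C.Opens) (hU : genericPoint C ∈ U) (a : Γ(C, U)),
      rval hU (α.app U (OmegaSh.dSect f U a)) = δ (C.presheaf.germ U (genericPoint C) hU a) := fun U hU a => by
    have := congrArg (fun E : OmegaSh.Der f (h.O W) => rval hU (E.app U a)) hα
    exact this
  have hgen : ∀ p : C, ∃ (V : C.Opens) (_ : p ∈ V) (s : Γ(Omega.sheaf f, V)), IsFrame (h.O W) V (α.app V s) := by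
    suffices hcl : ∀ p : C, IsClosed ({p} : Set C) →
        ∃ (V : C.Opens) (_ : p ∈ V) (s : Γ(Omega.sheaf f, V)), IsFrame (h.O W) V (α.app V s) by
      intro p
      obtain ⟨q, hq, hqc⟩ := IsClosed.exists_closed_singleton (isClosed_closure (s := ({p} : Set C)))
        ⟨p, subset_closure rfl⟩
      obtain ⟨V, hV, s, hs⟩ := hcl q hqc
      exact ⟨V, (specializes_iff_mem_closure.2 hq).mem_open V.2 hV, s, hs⟩
    intro p hp
    obtain ⟨t, ht0, ht⟩ := FF30.exists_uniformizer (h.place ⟨p, hp⟩)
    have hδt : δ t ≠ 0 := fun h0 => by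
      have := heq _ t ht
      rw [h0, map_zero] at this
      exact WithZero.exp_ne_zero this.symm
    have hfinB : ({P : Place k C.functionField | 1 < P.1 t} ∪
        {P | P.1 (δ t) ≠ WithZero.exp (W P)}).Finite := by
      refine ((div k t).support ∪ ((div k (δ t)).support ∪ W.support)).finite_toSet.subset fun P hP => ?_
      rw [Finset.coe_union, Finset.coe_union, Set.mem_union, Set.mem_union, Finset.mem_coe, Finset.mem_coe,
        Finset.mem_coe, Finsupp.mem_support_iff, Finsupp.mem_support_iff, Finsupp.mem_support_iff]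
      rcases hP with hP | hP
      · left
        rw [h.ffield.div_apply]
        exact ((FF30.one_lt_val_iff P).1 hP).ne
      · right
        by_contra hn
        push Not at hn
        refine hP ?_
        show P.1 (δ t) = WithZero.exp (W P)
        rw [hn.2, WithZero.exp_zero, FF30.val_eq_one_iff _ hδt, ← h.ffield.div_apply]
        exact hn.1
    obtain ⟨V, hpV, hV⟩ := h.exists_open_nbhd p _ hfinB
    have hη : genericPoint C ∈ V := gen_mem hpV
    obtain ⟨a, ha⟩ := (h.mem_range_germ_iff V hη t).2 fun y hy hyV => by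
      by_cases hyp : y = p
      · subst hyp
        rw [ht]
        exact (WithZero.exp_le_exp.2 (by norm_num : (-1 : ℤ) ≤ 0)).trans_eq WithZero.exp_zero
      · exact not_lt.1 fun hlt => hV y hy hyV hyp (Or.inl hlt)
    refine ⟨V, hpV, OmegaSh.dSect f V a, isFrame_of_rval hη _ (by rw [hd, ha]; exact hδt) fun y hy hyV => ?_⟩
    rw [hd, ha]
    by_cases hyp : y = p
    · subst hyp; exact heq _ t ht
    · exact not_not.1 fun hn => hV y hy hyV hyp (Or.inr hn)
  have hfr := Mero90.exists_frame' h.isInvertible_omega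
  have hbij : ∀ p : C, ∃ U : C.Opens, p ∈ U ∧ ∀ V : C.Opens, V ≤ U → Function.Bijective (α.app V) := by
    intro p
    obtain ⟨U₁, hp₁, s, hs⟩ := hgen p
    obtain ⟨U₂, hp₂, e, he⟩ := hfr p
    refine ⟨U₁ ⊓ U₂, ⟨hp₁, hp₂⟩, fun V hV => ?_⟩
    have h₁ : V ≤ U₁ := hV.trans inf_le_left
    have h₂ : V ≤ U₂ := hV.trans inf_le_right
    obtain ⟨a, ha⟩ := (he V h₂).2 (res _ h₁ s)
    have e1 : a • α.app V (res _ h₂ e) = res (h.O W) h₁ (α.app U₁ s) :=
      ((Scheme.Modules.Hom.app_smul α a _).symm.trans (congrArg (α.app V) ha)).trans (QC70.app_res α h₁ s)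
    obtain ⟨b, hb⟩ := (hs V h₁).2 (α.app V (res _ h₂ e))
    have hab : a * b = 1 := (hs V h₁).1 (by
      show (a * b) • _ = (1 : Γ(C, V)) • _
      rw [mul_smul, one_smul]
      exact (congrArg (a • ·) hb).trans e1)
    constructor
    · intro z z' hzz
      obtain ⟨c, rfl⟩ := (he V h₂).2 z
      obtain ⟨c', rfl⟩ := (he V h₂).2 z'
      have hcc : c * b = c' * b := (hs V h₁).1 (by
        show (c * b) • _ = (c' * b) • _
        rw [mul_smul, mul_smul]
        refine (congrArg (c • ·) hb).trans (Eq.trans ?_ (congrArg (c' • ·) hb).symm)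
        exact ((Scheme.Modules.Hom.app_smul α c _).symm.trans hzz).trans (Scheme.Modules.Hom.app_smul α c' _))
      have : c = c' := by
        calc c = c * b * a := by rw [mul_assoc, mul_comm b, hab, mul_one]
          _ = c' * b * a := by rw [hcc]
          _ = c' := by rw [mul_assoc, mul_comm b, hab, mul_one]
      rw [this]
    · intro z
      obtain ⟨c, rfl⟩ := (hs V h₁).2 z
      exact ⟨(c * a) • res _ h₂ e, ((Scheme.Modules.Hom.app_smul α (c * a) _).trans (mul_smul c a _)).trans
        (congrArg (c • ·) e1)⟩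
  have : Mono α := QC70.mono_of_app_injective α fun V z z' hzz => QC70.section_ext _ z z' fun p hp => by
    obtain ⟨U, hpU, hU⟩ := hbij p
    refine ⟨V ⊓ U, inf_le_left, ⟨hp, hpU⟩, (hU _ inf_le_right).1 ?_⟩
    rw [QC70.app_res, QC70.app_res, hzz]
  have : Epi α := QC70.epi_of_locally_surjective α fun V z p hp => by
    obtain ⟨U, hpU, hU⟩ := hbij p
    obtain ⟨s, hs⟩ := (hU (V ⊓ U) inf_le_right).2 (QC70.res _ inf_le_left z)
    exact ⟨V ⊓ U, inf_le_left, s, ⟨hp, hpU⟩, hs⟩
  have := isIso_of_mono_of_epi α
  exact ⟨W, hW, ⟨asIso α⟩⟩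

end Setup

end Groth.Agent.CrvPic30
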