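import Groth.Agent.CrvPic30.Points
import Groth.Agent.VarCurve.HomDeg
import Groth.Agent.EGA73.Tensor
import Groth.Prelude.Def_LinSer

/-! Translation of module statements on curves to divisors. -/

set_option autoImplicit false
set_option linter.style.haveILetI false

universe u

open CategoryTheory AlgebraicGeometry TopologicalSpace Opposite FunFld

namespace Groth.Agent.CrvPic30

variable {k : Type u} [Field k] {C : Scheme.{u}} [C.Over (Spec (CommRingCat.of k))] [IsIntegral C]

attribute [local instance] ffAlg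

namespace Setup

open Var76.LineBundle

theorem tensor_O_iso (h : Setup k C) {L M : C.Modules} {D E : Divisor k C.functionField} (eL : L ≅ h.O D)
    (eM : M ≅ h.O E) : Nonempty (CohB1.tensorMod L M ≅ h.O (D + E)) := by
  obtain ⟨e⟩ := h.nonempty_iso_tensor D E
  exact ⟨EGA73.tensIso eL eM ≪≫ e⟩

theorem tensorPow_iso (h : Setup k C) {L : C.Modules} {D : Divisor k C.functionField} (eL : L ≅ h.O D) :
    ∀ n : ℕ, Nonempty (CohB1.tensorPow L n ≅ h.O (n • D))
  | 0 => by
    obtain ⟨e⟩ := h.nonempty_iso_O_zero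
    exact ⟨show Coh.structureModule C ≅ _ from e ≪≫ eqToIso (by rw [zero_smul])⟩
  | n + 1 => by
    obtain ⟨e⟩ := tensorPow_iso h eL n
    obtain ⟨e'⟩ := h.tensor_O_iso e eL
    exact ⟨e' ≪≫ eqToIso (by rw [succ_nsmul])⟩

/-- An inverse of `O(D)` is `O(-D)`. -/
theorem iso_O_neg_of_inverse (h : Setup k C) {L M : C.Modules} {D : Divisor k C.functionField}
    (eL : L ≅ h.O D) (hM : ClSub.IsInverseOf L M) : Nonempty (M ≅ h.O (-D)) := by
  obtain ⟨eM⟩ := hM
  obtain ⟨e₀⟩ := h.nonempty_iso_O_zero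
  obtain ⟨e₁⟩ := h.tensor_O_iso (Iso.refl (h.O (-D))) eL
  let i : CohB1.tensorMod (h.O (-D)) L ≅ Coh.structureModule C :=
    e₁ ≪≫ eqToIso (by rw [neg_add_cancel]) ≪≫ e₀.symm
  exact ⟨(EGA73.tensUnitLeft M).symm ≪≫ EGA73.tensIso i.symm (Iso.refl M) ≪≫
    EGA73.tensAssoc' (h.O (-D)) L M ≪≫ EGA73.tensIso (Iso.refl _) eM ≪≫ EGA73.tensUnitRight _⟩

theorem h0_of_iso (h : Setup k C) {L : C.Modules} {D : Divisor k C.functionField} (e : L ≅ h.O D) :
    Module.finrank k (Coh.HH C L 0) = ell D := by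
  rw [h0_congr e, h.finrank_h0_O]

theorem h1_of_iso (h : Setup k C) {W : Divisor k C.functionField} (hW : IsCanonical k C.functionField W)
    {L : C.Modules} {D : Divisor k C.functionField} (e : L ≅ h.O D) :
    Module.finrank k (Coh.HH C L 1) = ell (W - D) := by
  rw [(Crv77.hEquiv k e 1).finrank_eq, h.riemann_roch hW]

theorem deg_of_iso (h : Setup k C) {L : C.Modules} {D : Divisor k C.functionField} (e : L ≅ h.O D) :
    Curv2.deg k C L 1 = D.deg := by
  rw [deg_congr e, h.deg_O]

theorem finite_h0 (h : Setup k C) {L : C.Modules} {D : Divisor k C.functionField} (e : L ≅ h.O D) :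
    Module.Finite k (Coh.HH C L 0) := by
  have := h.isNoetherian
  exact h.curveCoh.finite L (Crv77.isCoh_of_isInvertible (EGA73.isInvertible_of_iso e.symm (h.isInvertible_O D))) 0

theorem nontrivial_h0_iff (h : Setup k C) {L : C.Modules} {D : Divisor k C.functionField} (e : L ≅ h.O D) :
    Nontrivial (Coh.HH C L 0) ↔ 0 < ell D := by
  have := h.finite_h0 e
  rw [← h.h0_of_iso e, Module.finrank_pos_iff]

theorem h0_nontrivial_iff' (h : Setup k C) {L : C.Modules} {D : Divisor k C.functionField} (e : L ≅ h.O D) :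
    Subsingleton (Coh.HH C L 0) ↔ ell D = 0 := by
  rw [← not_nontrivial_iff_subsingleton, h.nontrivial_h0_iff e]; omega

omit [IsIntegral C] in
/-- `k`-linear independence of sections, on `H⁰`. -/
theorem linIndep_iff {L : C.Modules} {n : ℕ} (s : Fin n → LinSer.Sect C L) :
    LinSer.LinIndep k C L s ↔ LinearIndependent k (fun i => (Crv77.sec L).symm (s i)) := by
  rw [Fintype.linearIndependent_iff]
  have key : ∀ c : Fin n → k, Crv77.sec L (∑ i, c i • (Crv77.sec L).symm (s i)) =
      ∑ i, (Coh.toGlobal (C ↘ Spec (CommRingCat.of k)) (c i)) • s i := fun c => by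
    rw [map_sum]
    refine Finset.sum_congr rfl fun i _ => ?_
    rw [Crv77.sec_smul]
    exact congrArg (fun z : LinSer.Sect C L => (Coh.toGlobal (C ↘ Spec (CommRingCat.of k)) (c i)) • z) (AddEquiv.apply_symm_apply (Crv77.sec L) (s i))
  constructor
  · intro hs c hc i
    refine congrFun (hs c ?_) i
    rw [← key c, hc, map_zero]
    rfl
  · intro hs c hc
    funext i
    refine hs c ?_ i
    apply (Crv77.sec L).injective
    rw [key c, map_zero]
    exact hc

theorem le_ell_of_linSer (h : Setup k C) {L : C.Modules} {D : Divisor k C.functionField} (e : L ≅ h.O D)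
    {n : ℕ} {s : Fin n → LinSer.Sect C L} (hs : LinSer.LinIndep k C L s) : n ≤ ell D := by
  have := h.finite_h0 e
  have := ((linIndep_iff s).1 hs).fintype_card_le_finrank
  rwa [Fintype.card_fin, h.h0_of_iso e] at this

theorem exists_linIndep (h : Setup k C) {L : C.Modules} {D : Divisor k C.functionField} (e : L ≅ h.O D)
    {n : ℕ} (hn : n ≤ ell D) : ∃ s : Fin n → LinSer.Sect C L, LinSer.LinIndep k C L s := by
  have := h.finite_h0 e
  obtain ⟨v, hv⟩ := exists_linearIndependent_of_le_finrank (R := k) (M := Coh.HH C L 0) (n := n)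
    (by rw [h.h0_of_iso e]; exact hn)
  refine ⟨fun i => Crv77.sec L (v i), (linIndep_iff _).2 ?_⟩
  simpa using hv

theorem exists_linSer_iff (h : Setup k C) (d r : ℕ) :
    (∃ (M : C.Modules) (s : Fin (r + 1) → LinSer.Sect C M), LinSer.IsLinSer k C M d r s) ↔
      ∃ D : Divisor k C.functionField, D.deg = d ∧ r + 1 ≤ ell D := by
  constructor
  · rintro ⟨M, s, hM, hd, hs⟩
    obtain ⟨D, ⟨e⟩⟩ := h.exists_iso_O hM
    exact ⟨D, by rw [← h.deg_of_iso e, hd], h.le_ell_of_linSer e hs⟩
  · rintro ⟨D, hd, hl⟩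
    obtain ⟨s, hs⟩ := h.exists_linIndep (Iso.refl (h.O D)) hl
    exact ⟨h.O D, s, h.isInvertible_O D, by rw [h.deg_O, hd], hs⟩

/-- Twisting down by a closed point. -/
theorem ptTwist_iso (h : Setup k C) {P : C} (hP : IsClosed ({P} : Set C)) {L : C.Modules}
    {D : Divisor k C.functionField} (e : L ≅ h.O D) :
    Nonempty (CohB1.tensorMod (ClSub.idealMod (Crv77.ptIdeal hP)) L ≅
      h.O (D - Finsupp.single (h.pl hP) 1)) := by
  obtain ⟨eP⟩ := h.nonempty_ptIdeal_iso hP
  obtain ⟨e'⟩ := h.tensor_O_iso eP e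
  exact ⟨e' ≪≫ eqToIso (by rw [neg_add_eq_sub])⟩

theorem isGloballyGenerated_iff (h : Setup k C) {L : C.Modules} {D : Divisor k C.functionField}
    (e : L ≅ h.O D) :
    Curv2.IsGloballyGenerated L ↔ ∀ P : Place k C.functionField, ell (D - Finsupp.single P 1) < ell D := by
  have := h.proper
  have := h.isNoetherian
  have : CompactSpace C := QuasiCompact.compactSpace_of_compactSpace (C ↘ Spec (CommRingCat.of k))
  have hL : PicF.IsInvertible L := EGA73.isInvertible_of_iso e.symm (h.isInvertible_O D)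
  have key : ∀ (x : C) (hx : IsClosed ({x} : Set C)),
      (∃ t : Γ(L, ⊤), x ∈ CohB1.genLocus L (Var76.Frames.ofSection L t)) ↔
        ell (D - Finsupp.single (h.pl hx) 1) < ell D := fun x hx => by
    obtain ⟨e'⟩ := h.ptTwist_iso hx e
    rw [h.curveCoh.exists_gen_iff_h0_lt hx hL, h.h0_of_iso e', h.h0_of_iso e]
  constructor
  · intro hg P
    obtain ⟨⟨x, hx⟩, rfl⟩ := h.place.surjective P
    exact (key x hx).1 (Crv77.exists_gen_of_isGloballyGenerated hL hg hx)
  · exact fun hl => Crv77.isGloballyGenerated_of_gen hL fun x hx => (key x hx).2 (hl _)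

theorem deg_lt_of_mono (h : Setup k C) {M L : C.Modules} {D E : Divisor k C.functionField}
    (eM : M ≅ h.O D) (eL : L ≅ h.O E) (ι : M ⟶ L) [Mono ι] (hι : ¬ IsIso ι) : D.deg < E.deg := by
  have := h.isNoetherian
  have hM : PicF.IsInvertible M := EGA73.isInvertible_of_iso eM.symm (h.isInvertible_O D)
  have hL : PicF.IsInvertible L := EGA73.isInvertible_of_iso eL.symm (h.isInvertible_O E)
  have hne : ι ≠ 0 := fun e0 => by
    have hi : 𝟙 M = 0 := (cancel_mono ι).1 (by rw [e0, Limits.comp_zero, Limits.comp_zero])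
    have hzero : ∀ (V : C.Opens) (z : Γ(M, V)), z = 0 := fun V z => by
      have := congrArg (fun f : M ⟶ M => f.app V z) hi
      simpa using this
    obtain ⟨t, hηt, w, hw⟩ := Mero90.exists_frame' hM (genericPoint C)
    have h3 : (1 : Γ(C, t)) = 0 := (hw t le_rfl).1 ((hzero t _).trans (hzero t _).symm)
    have h4 := congrArg (C.presheaf.germ t (genericPoint C) hηt) h3
    rw [map_one, map_zero] at h4
    exact one_ne_zero h4
  obtain ⟨h1, h2⟩ := VarCurve.CurveCoh.deg_le_of_hom h.curveCoh h.dim.le hM hL ι hne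
  rw [h.deg_of_iso eM, h.deg_of_iso eL] at h1
  rw [h.deg_of_iso eM, h.deg_of_iso eL] at h2
  exact h1.lt_of_ne fun e1 => hι (h2 e1)

end Setup

end Groth.Agent.CrvPic30
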