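import Groth.Agent.CrvPic30.Omega
import Groth.Agent.CrvPic30.Linear
import Groth.Agent.CrvPic30.Toolkit

/-! Consequences of `Ω ≅ O(W)`. -/

set_option autoImplicit false
set_option linter.style.haveILetI false

universe u

open CategoryTheory AlgebraicGeometry TopologicalSpace Opposite FunFld

namespace Groth.Agent.CrvPic30

variable {k : Type u} [Field k] {C : Scheme.{u}} [C.Over (Spec (CommRingCat.of k))] [IsIntegral C]

attribute [local instance] ffAlg

namespace Setup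

/-- `H⁰(Ω ⊗ M)` for an inverse `M` of `O(D)` has dimension `ℓ(W - D)`. -/
theorem h0_omega_tensor_inverse (h : Setup k C) {Ω L M : C.Modules} {W D : Divisor k C.functionField}
    (eΩ : Ω ≅ h.O W) (eL : L ≅ h.O D) (hM : ClSub.IsInverseOf L M) :
    Module.finrank k (Coh.HH C (CohB1.tensorMod Ω M) 0) = ell (W - D) ∧
      (Nontrivial (Coh.HH C (CohB1.tensorMod Ω M) 0) ↔ 0 < ell (W - D)) := by
  obtain ⟨eM⟩ := h.iso_O_neg_of_inverse eL hM
  obtain ⟨e⟩ := h.tensor_O_iso eΩ eM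
  let e' : CohB1.tensorMod Ω M ≅ h.O (W - D) := e ≪≫ eqToIso (by rw [sub_eq_add_neg])
  exact ⟨h.h0_of_iso e', h.nontrivial_h0_iff e'⟩

theorem isEmpty_iso_iff (h : Setup k C) {L M : C.Modules} {D E : Divisor k C.functionField}
    (eL : L ≅ h.O D) (eM : M ≅ h.O E) : IsEmpty (L ≅ M) ↔ D - E ∉ prinDivs k C.functionField := by
  rw [← h.nonempty_iso_iff, not_nonempty_iff]
  exact ⟨fun he => ⟨fun e => he.false (eL ≪≫ e ≪≫ eM.symm)⟩,
    fun he => ⟨fun e => he.false (eL.symm ≪≫ e ≪≫ eM)⟩⟩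

theorem iso_of_sub_mem (h : Setup k C) {L M : C.Modules} {D E : Divisor k C.functionField}
    (eL : L ≅ h.O D) (eM : M ≅ h.O E) (hm : D - E ∈ prinDivs k C.functionField) : Nonempty (L ≅ M) := by
  obtain ⟨e⟩ := h.nonempty_iso_of_sub_mem hm
  exact ⟨eL ≪≫ e ≪≫ eM.symm⟩

variable {W : Divisor k C.functionField}

theorem h0_canonical (h : Setup k C) (hW : IsCanonical k C.functionField W) {Ω : C.Modules} (eΩ : Ω ≅ h.O W) :
    Module.finrank k (Coh.HH C Ω 0) = Curv2.genus k C ∧ Curv2.deg k C Ω 1 = 2 * (Curv2.genus k C : ℤ) - 2 := by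
  rw [h.h0_of_iso eΩ, h.deg_of_iso eΩ, h.genus_eq, FF30.ell_canonical h.ff hW, FF30.deg_canonical h.ff hW]
  exact ⟨rfl, rfl⟩

theorem iso_canonical (h : Setup k C) (hW : IsCanonical k C.functionField W) {Ω L : C.Modules}
    (eΩ : Ω ≅ h.O W) (hL : PicF.IsInvertible L) (hd : Curv2.deg k C L 1 = 2 * (Curv2.genus k C : ℤ) - 2)
    (hh : Curv2.genus k C ≤ Module.finrank k (Coh.HH C L 0)) : Nonempty (L ≅ Ω) := by
  obtain ⟨D, ⟨e⟩⟩ := h.exists_iso_O hL
  rw [h.deg_of_iso e, h.genus_eq] at hd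
  rw [h.h0_of_iso e, h.genus_eq] at hh
  exact h.iso_of_sub_mem e eΩ (sub_canonical_mem h.ff hW hd hh)

theorem omega_trivial_of_genus_one (h : Setup k C) (hW : IsCanonical k C.functionField W) {Ω : C.Modules}
    (eΩ : Ω ≅ h.O W) (hg : Curv2.genus k C = 1) : Nonempty (Ω ≅ Coh.structureModule C) := by
  obtain ⟨e₀⟩ := h.nonempty_iso_O_zero
  rw [h.genus_eq] at hg
  refine h.iso_of_sub_mem eΩ e₀ (sub_mem_of_deg_eq h.ff ?_ ?_)
  · rw [FF30.deg_canonical h.ff hW, hg, deg_zero']; norm_num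
  · rw [sub_zero, FF30.ell_canonical h.ff hW, hg]; norm_num

theorem omega_globallyGenerated (h : Setup k C) (hW : IsCanonical k C.functionField W) {Ω : C.Modules}
    (eΩ : Ω ≅ h.O W) (hg : 1 ≤ Curv2.genus k C) : Curv2.IsGloballyGenerated Ω := by
  rw [h.genus_eq] at hg
  refine (h.isGloballyGenerated_iff eΩ).2 fun P => ?_
  have h1 := FF30.riemann_roch' h.ff hW (W - Finsupp.single P 1)
  rw [sub_sub_cancel, FF30.deg_sub, FF30.deg_canonical h.ff hW, FF30.deg_single] at h1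
  have hP := h.ffield.deg_pos P
  have h2 : (ell (Finsupp.single P 1 : Divisor k C.functionField) : ℤ) ≤ P.deg := by
    by_contra hlt
    have hle := ell_le_deg_add_one h.ff (Finsupp.single P 1)
      (by rw [FF30.deg_single]; omega)
    rw [FF30.deg_single] at hle
    have := h.isNoetherian
    have h0 := h.curveCoh.genus_eq_zero_of_h0_eq h.dim h.finrank_h0_structureModule
      (h.isInvertible_O (Finsupp.single P 1))
      (by simp only [Crv77.h, h.finrank_h0_O, h.deg_O, FF30.deg_single]; omega)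
      (by rw [h.deg_O, FF30.deg_single]; omega)
    rw [h.genus_eq] at h0
    omega
  rw [FF30.ell_canonical h.ff hW]
  omega

end Setup

end Groth.Agent.CrvPic30
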