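import Groth.Agent.CrvPic30.Linear
import Groth.Agent.CrvPic30.Toolkit
import Groth.Agent.Crv77.Hopf

/-! Clifford's theorem and the uniqueness of the `g¹₂`. -/

set_option autoImplicit false
set_option linter.style.haveILetI false

universe u

open CategoryTheory AlgebraicGeometry TopologicalSpace Opposite FunFld

namespace Groth.Agent.CrvPic30

variable {k : Type u} [Field k] [IsAlgClosed k] {C : Scheme.{u}} [C.Over (Spec (CommRingCat.of k))] [IsIntegral C]

attribute [local instance] ffAlg

namespace Setup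

theorem hopf (h : Setup k C) {D E : Divisor k C.functionField} (hD : 0 < ell D) (hE : 0 < ell E) :
    ell D + ell E ≤ ell (D + E) + 1 := by
  have := h.isNoetherian
  have := h.proper
  obtain ⟨e⟩ := h.nonempty_iso_tensor D E
  have := h.curveCoh.h0_add_le (h.isInvertible_O D) (h.isInvertible_O E)
    ((h.nontrivial_h0_iff (Iso.refl _)).2 hD) ((h.nontrivial_h0_iff (Iso.refl _)).2 hE)
  rwa [h0_congr e, h.finrank_h0_O, h.finrank_h0_O, h.finrank_h0_O] at this

variable {W : Divisor k C.functionField}

theorem clifford_sum (h : Setup k C) (hW : IsCanonical k C.functionField W) {D : Divisor k C.functionField}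
    (hD : 0 < ell D) (hD' : 0 < ell (W - D)) :
    ell D + ell (W - D) ≤ genus k C.functionField + 1 := by
  have := h.hopf hD hD'
  rwa [add_sub_cancel, FF30.ell_canonical h.ff hW] at this

theorem clifford (h : Setup k C) (hW : IsCanonical k C.functionField W) {D : Divisor k C.functionField}
    (hD : 0 < ell D) (hD' : 0 < ell (W - D)) : 2 * (ell D : ℤ) ≤ D.deg + 2 := by
  have := h.clifford_sum hW hD hD'
  have := FF30.riemann_roch' h.ff hW D
  omega

theorem ell_nsmul_ge (h : Setup k C) {N : Divisor k C.functionField} (hN : 2 ≤ ell N) :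
    ∀ r : ℕ, r + 1 ≤ ell (r • N)
  | 0 => by rw [zero_smul, FF30.ell_zero h.ff]
  | r + 1 => by
    have h1 := ell_nsmul_ge h hN r
    have h2 := h.hopf (D := r • N) (E := N) (by omega) (by omega)
    rw [succ_nsmul]
    omega

/-- `(g - 1 - r)N + D` is canonical if `D` has degree `2r` and `r + 1` sections. -/
theorem add_nsmul_sub_canonical (h : Setup k C) (hW : IsCanonical k C.functionField W)
    {N D : Divisor k C.functionField} (hNd : N.deg = 2) (hN : 2 ≤ ell N) {r : ℕ}
    (hr : r + 1 ≤ genus k C.functionField) (hDd : D.deg = 2 * r) (hD : r + 1 ≤ ell D) :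
    D + (genus k C.functionField - 1 - r) • N - W ∈ prinDivs k C.functionField := by
  refine sub_canonical_mem h.ff hW ?_ ?_
  · rw [FF30.deg_add, FF30.deg_nsmul, hNd, hDd]
    push_cast [Nat.cast_sub hr, Nat.cast_sub (show 1 ≤ genus k C.functionField by omega),
      Nat.cast_sub (show r ≤ genus k C.functionField - 1 by omega)]
    ring
  · have h1 := h.ell_nsmul_ge hN (genus k C.functionField - 1 - r)
    have h2 := h.hopf (D := D) (E := (genus k C.functionField - 1 - r) • N) (by omega) (by omega)
    omega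

/-- A special series attaining Clifford's bound is a multiple of a `g¹₂`. -/
theorem sub_nsmul_mem (h : Setup k C) (hW : IsCanonical k C.functionField W)
    {N D : Divisor k C.functionField} (hNd : N.deg = 2) (hN : 2 ≤ ell N) {r : ℕ}
    (hr : r + 1 ≤ genus k C.functionField) (hDd : D.deg = 2 * r) (hD : r + 1 ≤ ell D) :
    D - r • N ∈ prinDivs k C.functionField := by
  have h1 := h.add_nsmul_sub_canonical hW hNd hN hr hDd hD
  have h2 := h.add_nsmul_sub_canonical hW hNd hN hr
    (D := r • N) (by rw [FF30.deg_nsmul, hNd]; ring) (h.ell_nsmul_ge hN r)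
  have := sub_mem h1 h2
  rwa [sub_sub_sub_cancel_right, add_sub_add_right_eq_sub] at this

theorem g12_unique (h : Setup k C) (hW : IsCanonical k C.functionField W) (hg : 2 ≤ genus k C.functionField)
    {N N' : Divisor k C.functionField} (hNd : N.deg = 2) (hN : 2 ≤ ell N) (hNd' : N'.deg = 2) (hN' : 2 ≤ ell N') :
    N' - N ∈ prinDivs k C.functionField := by
  simpa using h.sub_nsmul_mem hW hNd hN (D := N') (r := 1) hg (by rw [hNd']; norm_num) hN'

/-- A special divisor attaining Clifford's bound, neither trivial nor canonical, yields a `g¹₂`. -/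
theorem exists_g12_of_clifford_eq (h : Setup k C) (hW : IsCanonical k C.functionField W) :
    ∀ (r : ℕ) (D : Divisor k C.functionField), 1 ≤ r → D.deg = 2 * r → r + 1 ≤ ell D → r + 2 ≤ genus k C.functionField →
      ∃ N : Divisor k C.functionField, N.deg = 2 ∧ 2 ≤ ell N := by
  classical
  intro r
  induction r using Nat.strong_induction_on with
  | _ r ih =>
  intro D hr1 hd hl hg
  rcases eq_or_lt_of_le hr1 with rfl | hr2
  · exact ⟨D, by rw [hd]; norm_num, hl⟩
  have hF := h.ffield
  have hrr := FF30.riemann_roch' h.ff hW D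
  have hpos : 0 < ell (W - D) := by omega
  obtain ⟨E, hE0, hEeq, hEd⟩ := exists_eff hF hpos
  rw [FF30.deg_sub, FF30.deg_canonical h.ff hW, hd] at hEd
  have hne : E ≠ 0 := fun e => by rw [e, deg_zero'] at hEd; omega
  obtain ⟨P, hP⟩ := Finsupp.support_nonempty_iff.2 hne
  have := hF.infinite_places
  obtain ⟨Q, hQ⟩ := Infinite.exists_notMem_finset E.support
  have hPQ : P ≠ Q := fun e => hQ (e ▸ hP)
  rw [Finsupp.mem_support_iff] at hP
  have hQ0 : E Q = 0 := Finsupp.notMem_support_iff.1 hQ
  have hP1 : 1 ≤ E P := by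
    have := hE0 P
    rw [Finsupp.zero_apply] at this
    omega
  set R : Divisor k C.functionField := Finsupp.single P 1 + Finsupp.single Q 1 with hR
  have hR0 : 0 ≤ R := add_nonneg (Finsupp.single_nonneg.2 zero_le_one) (Finsupp.single_nonneg.2 zero_le_one)
  have hRd : R.deg = 2 := by rw [hR, FF30.deg_add, hF.deg_single', hF.deg_single']; norm_num
  have hRP : R P = 1 := by
    rw [hR, Finsupp.add_apply, Finsupp.single_eq_same, Finsupp.single_eq_of_ne hPQ, add_zero]
  have hRQ : R Q = 1 := by
    rw [hR, Finsupp.add_apply, Finsupp.single_eq_same, Finsupp.single_eq_of_ne hPQ.symm, zero_add]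
  have h2 := hF.ell_sub_le (sub_le_self D hR0)
  rw [FF30.deg_sub, hRd] at h2
  obtain ⟨D'', hD''0, hD''eq, hD''d⟩ := exists_eff hF (D := D - R) (by omega)
  obtain ⟨D', hD'⟩ : ∃ D' : Divisor k C.functionField, D' = D'' + R := ⟨_, rfl⟩
  have hD'0 : 0 ≤ D' := hD'.symm ▸ add_nonneg hD''0 hR0
  have hDD' : D - D' ∈ prinDivs k C.functionField := by
    rw [hD', show D - (D'' + R) = D - R - D'' by abel]; exact hD''eq
  set M := D' ⊓ E with hM
  have hM0 : 0 ≤ M := le_inf hD'0 hE0
  have hMP : 1 ≤ M P := by
    rw [hM, Finsupp.inf_apply, hD', Finsupp.add_apply, hRP]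
    have := hD''0 P
    rw [Finsupp.zero_apply] at this
    exact le_inf (by omega) hP1
  have hMlt : M.deg < D'.deg := by
    by_contra hle
    have heq : M = D' := hF.eq_of_le_of_deg_le (inf_le_left : M ≤ D') (not_lt.1 hle)
    have h3 : M Q ≤ 0 := by rw [hM, Finsupp.inf_apply, hQ0]; exact inf_le_right
    have h4 : D' Q ≥ 1 := by
      rw [hD', Finsupp.add_apply, hRQ]
      have := hD''0 Q
      rw [Finsupp.zero_apply] at this
      omega
    rw [heq] at h3
    omega
  have hMd : 1 ≤ M.deg := by
    have := FF30.deg_mono (D := Finsupp.single P 1) (E := M) fun S => by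
      by_cases hS : S = P
      · subst hS; rwa [Finsupp.single_eq_same]
      · rw [Finsupp.single_eq_of_ne hS]; exact hM0 S
    rwa [hF.deg_single'] at this
  have hinf : L M = L D' ⊓ L E := by
    refine le_antisymm (le_inf (FF30.L_mono inf_le_left) (FF30.L_mono inf_le_right)) fun x hx P' => ?_
    rw [hM, Finsupp.inf_apply]
    rcases le_total (D' P') (E P') with hh | hh
    · rw [inf_eq_left.2 hh]; exact hx.1 P'
    · rw [inf_eq_right.2 hh]; exact hx.2 P'
  have hsup : (L D' ⊔ L E : Submodule k C.functionField) ≤ L (D' ⊔ E) :=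
    sup_le (FF30.L_mono le_sup_left) (FF30.L_mono le_sup_right)
  have := hF.finite_L D'
  have := hF.finite_L E
  have := hF.finite_L (D' ⊔ E)
  have hdim := Submodule.finrank_sup_add_finrank_inf_eq (L D') (L E)
  rw [← hinf] at hdim
  have h5 : Module.finrank k (L D' ⊔ L E : Submodule k C.functionField) ≤ ell (D' ⊔ E) :=
    Submodule.finrank_mono hsup
  have hcomb : D' ⊔ E - (W - M) ∈ prinDivs k C.functionField := by
    have e1 : D' ⊔ E = D' + E - M := Finsupp.ext fun S => by
      rw [Finsupp.sup_apply, Finsupp.sub_apply, Finsupp.add_apply, hM, Finsupp.inf_apply]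
      rcases le_total (D' S) (E S) with hh | hh
      · rw [sup_eq_right.2 hh, inf_eq_left.2 hh]; ring
      · rw [sup_eq_left.2 hh, inf_eq_right.2 hh]; ring
    rw [e1, show D' + E - M - (W - M) = -((D - D') + (W - D - E)) by abel]
    exact neg_mem (add_mem hDD' hEeq)
  rw [FF30.ell_congr hF hcomb] at h5
  have hD'l := FF30.ell_congr hF hDD'
  have hEl := FF30.ell_congr hF hEeq
  have hdim' : Module.finrank k (L D' ⊔ L E : Submodule k C.functionField) + ell M = ell D' + ell E := hdim
  have hMl := ell_pos_of_nonneg h.ff hM0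
  have hWM : 0 < ell (W - M) := by
    rw [← FF30.ell_congr hF hcomb]
    exact ell_pos_of_nonneg h.ff (hD'0.trans le_sup_left)
  have hs := h.clifford_sum hW hMl hWM
  have hrrM := FF30.riemann_roch' h.ff hW M
  have hD'd := deg_congr_prin hF hDD'
  obtain ⟨s, hs1⟩ : ∃ s : ℕ, M.deg = 2 * s := ⟨ell M - 1, by omega⟩
  exact ih s (by omega) M (by omega) hs1 (by omega) (by omega)

end Setup

end Groth.Agent.CrvPic30
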