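import Groth.Agent.CrvPic30.Classify
import Groth.Agent.Zeta24.Euler
import Groth.Agent.FF30.ZetaOne
import Groth.Prelude.Def_Pic

/-! Curves over finite fields: degree classes and the zeta function. -/

set_option autoImplicit false
set_option linter.style.haveILetI false

universe u

open CategoryTheory AlgebraicGeometry FunFld

namespace Groth.Agent.CrvPic30

variable {k : Type u} [Field k] {C : Scheme.{u}} [C.Over (Spec (CommRingCat.of k))] [IsIntegral C]

attribute [local instance] ffAlg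

omit [IsIntegral C] [C.Over (Spec (CommRingCat.of k))] in
theorem nonempty_iso_of_cl_eq {L M : C.Modules} (e : PicF.cl L = PicF.cl M) : Nonempty (L ≅ M) := by
  have := Quot.eqvGen_exact e
  clear e
  induction this with
  | rel _ _ h => exact h
  | refl _ => exact ⟨Iso.refl _⟩
  | symm _ _ _ h => obtain ⟨i⟩ := h; exact ⟨i.symm⟩
  | trans _ _ _ _ _ h h' => obtain ⟨i⟩ := h; obtain ⟨j⟩ := h'; exact ⟨i ≪≫ j⟩

variable (k) in
/-- Classes of invertible modules of given degree. -/
abbrev DegCl (C : Scheme.{u}) [C.Over (Spec (CommRingCat.of k))] (m : ℤ) :=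
  {c : PicF.Cl C // ∃ L : C.Modules, PicF.cl L = c ∧ PicF.IsInvertible L ∧ Curv2.deg k C L 1 = m}

namespace Setup

variable [Finite k]

theorem exists_deg_eq (h : Setup k C) (m : ℤ) : ∃ D : Divisor k C.functionField, D.deg = m := by
  obtain ⟨D, hD⟩ := FF30.exists_deg_one h.ff
  exact ⟨m • D, by rw [← FF30.degHom_eq, map_zsmul, FF30.degHom_eq, hD, smul_eq_mul, mul_one]⟩

/-- Classes of degree `m` are degree-zero divisor classes. -/
theorem exists_bijective_degCl (h : Setup k C) (m : ℤ) :
    ∃ φ : FF30.Cl k C.functionField → DegCl k C m, Function.Bijective φ := by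
  obtain ⟨D₀, hD₀⟩ := h.exists_deg_eq m
  let rep : FF30.Cl k C.functionField → Divisor k C.functionField :=
    fun c => D₀ + ((c.out : (degHom k C.functionField).ker) : Divisor k C.functionField)
  have hrep : ∀ c, (rep c).deg = m := fun c => by
    rw [← FF30.degHom_eq, map_add, FF30.degHom_eq, FF30.degHom_eq, FF30.deg_clOut, hD₀, add_zero]
  refine ⟨fun c => ⟨PicF.cl (h.O (rep c)), h.O (rep c), rfl, h.isInvertible_O _, by rw [h.deg_O, hrep]⟩,
    fun c c' e => ?_, ?_⟩
  · obtain ⟨i⟩ := nonempty_iso_of_cl_eq (congrArg Subtype.val e)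
    have h1 := h.sub_mem_of_iso i
    rw [add_sub_add_left_eq_sub] at h1
    rw [← QuotientAddGroup.out_eq' c, ← QuotientAddGroup.out_eq' c', QuotientAddGroup.eq,
      AddSubgroup.mem_addSubgroupOf]
    have h2 := neg_mem h1
    rw [neg_sub] at h2
    simpa [neg_add_eq_sub] using h2
  · rintro ⟨_, L, rfl, hL, hdeg⟩
    obtain ⟨D, ⟨i⟩⟩ := h.exists_iso_O hL
    have hD : D.deg = m := by rw [← h.deg_O, ← deg_congr i, hdeg]
    let d : (degHom k C.functionField).ker := ⟨D - D₀, by
      rw [AddMonoidHom.mem_ker, map_sub, FF30.degHom_eq, FF30.degHom_eq, hD, hD₀, sub_self]⟩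
    refine ⟨QuotientAddGroup.mk d, Subtype.ext (Quot.sound ?_)⟩
    obtain ⟨p, hp⟩ := QuotientAddGroup.mk_out_eq_mul
      ((prinDivs k C.functionField).addSubgroupOf (degHom k C.functionField).ker) d
    obtain ⟨j⟩ := h.nonempty_iso_of_sub_mem (D := rep (QuotientAddGroup.mk d)) (E := D) (by
      show D₀ + _ - D ∈ _
      rw [hp, AddSubgroup.coe_add]
      show D₀ + ((D - D₀) + (p.1 : Divisor k C.functionField)) - D ∈ _
      rw [show D₀ + ((D - D₀) + (p.1 : Divisor k C.functionField)) - D = (p.1 : Divisor k C.functionField) by abel]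
      exact AddSubgroup.mem_addSubgroupOf.1 p.2)
    exact ⟨j ≪≫ i.symm⟩

theorem card_degCl (h : Setup k C) (m : ℤ) :
    Finite (DegCl k C m) ∧ Nonempty (DegCl k C m) ∧ Nat.card (DegCl k C m) = classNum k C.functionField := by
  obtain ⟨φ, hφ⟩ := h.exists_bijective_degCl m
  have := FF30.finite_Cl h.ff
  exact ⟨Finite.of_surjective φ hφ.2, ⟨φ 0⟩, (Nat.card_eq_of_bijective φ hφ).symm⟩

theorem residueDegree_eq (h : Setup k C) (x : {x : C // IsClosed ({x} : Set C)}) :
    EGA4loc.residueDegree (C ↘ Spec (CommRingCat.of k)) x.1 = (h.place x).deg := by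
  rw [h.place_deg x]
  exact Cyc90.residueDegree_eq_finrank (C ↘ Spec (CommRingCat.of k)) x.1

theorem nPts_eq (h : Setup k C) {n : ℕ} (hn : 0 < n) :
    Zeta.nPts (C ↘ Spec (CommRingCat.of k)) n = FF30.frobSum k C.functionField n := by
  classical
  let S := (h.ffield.finite_dvd hn.ne').toFinset
  have hS : ∀ P, P ∈ S ↔ P.deg ∣ n := fun P => Set.Finite.mem_toFinset _
  rw [Zeta.nPts, FF30.frobSum, finsum_mem_eq_finite_toFinset_sum _ (h.ffield.finite_dvd hn.ne'),
    ← Finset.sum_fiberwise_of_maps_to (t := n.divisors) (g := Place.deg) (fun P hP =>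
      Nat.mem_divisors.2 ⟨(hS P).1 hP, hn.ne'⟩)]
  refine Finset.sum_congr rfl fun e he => ?_
  rw [Finset.sum_congr rfl (g := fun _ => e) (fun P hP => (Finset.mem_filter.1 hP).2), Finset.sum_const,
    smul_eq_mul, mul_comm]
  refine congrArg (· * e) ?_
  rw [Zeta.degCount, ← Nat.card_eq_finsetCard]
  refine Nat.card_congr ((Equiv.subtypeSubtypeEquivSubtypeInter (fun x : C => IsClosed ({x} : Set C))
    (fun x => EGA4loc.residueDegree (C ↘ Spec (CommRingCat.of k)) x = e)).symm.trans
    (h.place.subtypeEquiv fun x => ?_))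
  rw [h.residueDegree_eq, Finset.mem_filter, hS]
  exact ⟨fun hx => ⟨hx ▸ (Nat.mem_divisors.1 he).1, hx⟩, fun hx => hx.2⟩

theorem zetaFun_eq (h : Setup k C) :
    Zeta.zetaFun (C ↘ Spec (CommRingCat.of k)) = PowerSeries.map (Int.castRingHom ℚ) (zetaZ k C.functionField) := by
  classical
  let f := C ↘ Spec (CommRingCat.of k)
  refine Zeta24.eq_of_theta ?_ (Zeta24.theta_zetaFun f) ?_ ?_
  · simp [Zeta.nPts, ← PowerSeries.coeff_zero_eq_constantCoeff_apply]
  · ext n
    rw [Zeta24.coeff_theta, PowerSeries.coeff_map, PowerSeries.coeff_mul,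
      Finset.Nat.sum_antidiagonal_eq_sum_range_succ fun i j =>
        PowerSeries.coeff i (PowerSeries.map (Int.castRingHom ℚ) (zetaZ k C.functionField)) *
          PowerSeries.coeff j (PowerSeries.mk fun m => (Zeta.nPts f m : ℚ))]
    have e := congrArg (fun a : ℕ => (a : ℚ)) (FF30.euler_rec h.ffield n)
    push_cast at e
    simp only [zetaZ, PowerSeries.coeff_map, PowerSeries.coeff_mk, eq_intCast, Int.cast_natCast]
    rw [e, Finset.sum_range_succ, Nat.sub_self, show Zeta.nPts f 0 = 0 by simp [Zeta.nPts], Nat.cast_zero,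
      mul_zero, add_zero]
    refine Finset.sum_nbij' (fun j => n - j) (fun i => n - i) ?_ ?_ ?_ ?_ ?_
    all_goals intro i hi
    all_goals simp only [Finset.mem_Icc, Finset.mem_range] at hi ⊢
    all_goals try omega
    rw [h.nPts_eq (by omega), Nat.sub_sub_self hi.2, mul_comm]
  · rw [← PowerSeries.coeff_zero_eq_constantCoeff_apply, ← PowerSeries.coeff_zero_eq_constantCoeff_apply,
      PowerSeries.coeff_map, zetaZ, PowerSeries.coeff_mk, FF30.effDivCount_zero h.ffield, Nat.cast_one, map_one]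
    rw [PowerSeries.coeff_zero_eq_constantCoeff_apply]
    exact Zeta24.constantCoeff_zetaFun f

theorem exists_numerator (h : Setup k C) :
    ∃ P : Polynomial ℤ, P.natDegree ≤ 2 * Curv2.genus k C ∧ P.coeff 0 = 1 ∧
      P.eval 1 = Nat.card (DegCl k C 0) ∧
      Zeta.zetaFun (C ↘ Spec (CommRingCat.of k)) *
          ((1 - PowerSeries.X) * (1 - PowerSeries.C (Nat.card k : ℚ) * PowerSeries.X)) =
        ((P.map (Int.castRingHom ℚ) : Polynomial ℚ) : PowerSeries ℚ) := by
  obtain ⟨p, hp, hdeg, hp0⟩ := FF30.exists_numer h.ff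
  refine ⟨p, by rw [hdeg, h.genus_eq], hp0, by rw [FF30.eval_numer_one h.ff p hp, (h.card_degCl 0).2.2], ?_⟩
  rw [h.zetaFun_eq, Polynomial.polynomial_map_coe, hp, numerZ]
  simp only [map_mul, map_sub, map_one, PowerSeries.map_X, PowerSeries.map_C, map_natCast]
  ring

end Setup

end Groth.Agent.CrvPic30
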