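import Groth.Agent.CrvPic30.Canonical
import Groth.Agent.CrvPic30.Clifford

/-! The inclusion `O(D) → O(E)` for `D ≤ E`. -/

set_option autoImplicit false
set_option linter.style.haveILetI false

universe u

open CategoryTheory AlgebraicGeometry TopologicalSpace Opposite FunFld

namespace Groth.Agent.CrvPic30

variable {k : Type u} [Field k] {C : Scheme.{u}} [C.Over (Spec (CommRingCat.of k))] [IsIntegral C]

attribute [local instance] ffAlg

namespace Setup

/-- The inclusion `O(D) → O(E)`. -/
noncomputable def incl (h : Setup k C) {D E : Divisor k C.functionField} (hle : D ≤ E) : h.O D ⟶ h.O E :=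
  ⟨PresheafOfModules.homMk (M₁ := (h.O D).val) (M₂ := (h.O E).val)
      { app := fun V => AddCommGrpCat.ofHom
          { toFun := fun (t : Γ(h.O D, V.unop)) =>
              (⟨t.1, t.2.1, fun x hx => (t.2.2 x hx).trans (WithZero.exp_le_exp.2 (hle _))⟩ : Γ(h.O E, V.unop))
            map_zero' := rfl
            map_add' := fun _ _ => rfl }
        naturality := fun {V W} i => rfl }
      (fun V r t => rfl)⟩

theorem mono_incl (h : Setup k C) {D E : Divisor k C.functionField} (hle : D ≤ E) : Mono (h.incl hle) :=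
  QC70.mono_of_app_injective _ fun V a b e =>
    @Subtype.ext _ _ a b (congrArg (fun z : Γ(h.O E, V) => z.1) e)

/-- A monomorphism `O(D) → O(W)`, not an isomorphism, when `W - D` has a section and degrees differ. -/
theorem exists_mono (h : Setup k C) {L M : C.Modules} {D W : Divisor k C.functionField}
    (eL : L ≅ h.O D) (eM : M ≅ h.O W) (hpos : 0 < ell (W - D)) (hne : D.deg ≠ W.deg) :
    ∃ ι : L ⟶ M, Mono ι ∧ ¬ IsIso ι := by
  obtain ⟨E, hE, hEW, -⟩ := exists_eff h.ffield hpos
  obtain ⟨e⟩ := h.nonempty_iso_of_sub_mem (D := D + E) (E := W)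
    (by rw [show D + E - W = -(W - D - E) by abel]; exact neg_mem hEW)
  have := h.mono_incl (le_add_of_nonneg_right hE : D ≤ D + E)
  refine ⟨eL.hom ≫ h.incl (le_add_of_nonneg_right hE) ≫ e.hom ≫ eM.inv, inferInstance, fun hi => hne ?_⟩
  rw [← h.deg_of_iso eL, deg_congr (asIso (eL.hom ≫ h.incl (le_add_of_nonneg_right hE) ≫ e.hom ≫ eM.inv)),
    h.deg_of_iso eM]

end Setup

end Groth.Agent.CrvPic30
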