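import Groth.Agent.CrvFF30.Basic
import Groth.Agent.Crv77.Basic

/-! Curves with valuation stalks: closed points and places of the function field. -/

set_option autoImplicit false
set_option linter.style.haveILetI false

universe u

open CategoryTheory AlgebraicGeometry TopologicalSpace IsLocalRing FunFld

namespace Groth.Agent.CrvPic30

variable {k : Type u} [Field k] {C : Scheme.{u}} [C.Over (Spec (CommRingCat.of k))] [IsIntegral C]

variable (k C) in
/-- The structure of `k`-algebra on the function field. -/
noncomputable abbrev ffAlg : Algebra k C.functionField :=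
  CrvFF30.kAlg (C ↘ Spec (CommRingCat.of k))

attribute [local instance] ffAlg

variable (k C) in
/-- A proper curve with valuation stalks and constants `k`. -/
structure Setup : Prop where
  proper : IsProper (C ↘ Spec (CommRingCat.of k))
  dim : topologicalKrullDim C = 1
  stalks : ∀ y : C, ∃ _ : IsDomain (C.presheaf.stalk y), ValuationRing (C.presheaf.stalk y)
  ff : IsFunctionField k C.functionField

theorem setup_of_smooth [PerfectField k] [IsProper (C ↘ Spec (CommRingCat.of k))]
    [Smooth (C ↘ Spec (CommRingCat.of k))] [GeometricallyIrreducible (C ↘ Spec (CommRingCat.of k))]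
    (hdim : topologicalKrullDim C = 1) : Setup k C :=
  ⟨inferInstance, hdim, CrvFF30.stalks_valuationRing (C ↘ Spec (CommRingCat.of k)) hdim,
    CrvFF30.isFunctionField (C ↘ Spec (CommRingCat.of k)) hdim⟩

namespace Setup

variable (h : Setup k C)
include h

theorem exists_pointEquiv :
    ∃ e : {x : C // IsClosed ({x} : Set C)} ≃ Place k C.functionField,
      ∀ x, (∀ z, (e x).1 z ≤ 1 ↔ Curves2.RegAt x.1 z) ∧
        (e x).deg = (letI := (WC97.kStr (C ↘ Spec (CommRingCat.of k)) x.1).toAlgebra
          Module.finrank k (C.residueField x)) := by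
  classical
  let f := C ↘ Spec (CommRingCat.of k)
  have : IsProper f := h.proper
  have hval := h.stalks
  choose p hp hc using Curves2.exists_place_at f h.dim hval
  choose ctr hctr huniq using Cyc90.existsUnique_centre f h.dim
  have hv := fun (P Q : Place k C.functionField) (h : ∀ z, P.1 z ≤ 1 ↔ Q.1 z ≤ 1) =>
    FF30.place_ext_O (P := P) (Q := Q) (SetLike.ext fun z => h z)
  let e : {x : C // IsClosed ({x} : Set C)} ≃ Place k C.functionField :=
    { toFun := fun x => p x.1 x.2
      invFun := fun P => ⟨ctr P, (hctr P).1⟩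
      left_inv := fun x => Subtype.ext (huniq _ x.1 ⟨x.2, hc x.1 x.2⟩).symm
      right_inv := fun P => by
        refine hv _ _ fun z => ⟨fun hz => ?_, fun hz => ?_⟩
        · obtain ⟨b, rfl⟩ := (hp _ (hctr P).1 z).1 hz
          exact ((hctr P).2 b).1
        · obtain ⟨_, _⟩ := hval (ctr P)
          rcases ValuationRing.isInteger_or_isInteger (C.presheaf.stalk (ctr P)) z with h | ⟨b, hb⟩
          · exact (hp _ (hctr P).1 z).2 h
          · refine (hp _ (hctr P).1 z).2 ?_
            by_cases hz0 : z = 0
            · exact ⟨0, by rw [map_zero, hz0]⟩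
            by_cases hu : IsUnit b
            · obtain ⟨v, rfl⟩ := hu
              exact ⟨(v⁻¹ : (C.presheaf.stalk (ctr P))ˣ), by
                rw [map_units_inv, hb, inv_inv]⟩
            · have hlt := ((hctr P).2 b).2 ((mem_maximalIdeal b).2 hu)
              rw [hb, map_inv₀] at hlt
              have hpos : 0 < P.1 z := zero_lt_iff.2 ((Valuation.ne_zero_iff _).2 hz0)
              exact absurd ((inv_lt_one₀ hpos).1 hlt) (not_lt.2 hz) }
  refine ⟨e, fun x => ⟨hp x.1 x.2, ?_⟩⟩
  set P := p x.1 x.2 with hP
  let A := C.presheaf.stalk x.1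
  let ψ : A →+* P.O :=
    (algebraMap A C.functionField).codRestrict P.O fun a => (hc x.1 x.2 a).1
  have hψ : Function.Bijective ψ := by
    refine ⟨fun a b hab => IsFractionRing.injective A C.functionField (congrArg Subtype.val hab), fun z => ?_⟩
    obtain ⟨b, hb⟩ := (hp x.1 x.2 z.1).1 z.2
    exact ⟨b, Subtype.ext hb⟩
  let E := RingEquiv.ofBijective ψ hψ
  letI : Algebra k (ResidueField A) := (WC97.kStr f x.1).toAlgebra
  show Module.finrank k (ResidueField P.O) = Module.finrank k (ResidueField A)
  refine (Algebra.finrank_eq_of_equiv_equiv (RingEquiv.refl k) (ResidueField.mapEquiv E) ?_).symm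
  refine RingHom.ext fun a => ?_
  change residue P.O (algebraMap k P.O a) =
    ResidueField.mapEquiv E (WC97.kStr f x.1 a : ResidueField A)
  rw [Cyc90.kStr_eq_residue]
  refine congrArg (residue P.O) (Subtype.ext ?_)
  exact (RingHom.congr_fun (Cyc90.kStalk_specializes f ((genericPoint_spec C).specializes (y := x.1) trivial)) a).symm

/-- The place of a closed point. -/
noncomputable def place : {x : C // IsClosed ({x} : Set C)} ≃ Place k C.functionField :=
  h.exists_pointEquiv.choose

theorem place_le_one_iff (x : {x : C // IsClosed ({x} : Set C)}) (z : C.functionField) :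
    (h.place x).1 z ≤ 1 ↔ Curves2.RegAt x.1 z :=
  (h.exists_pointEquiv.choose_spec x).1 z

theorem place_deg (x : {x : C // IsClosed ({x} : Set C)}) :
    (h.place x).deg = (letI := (WC97.kStr (C ↘ Spec (CommRingCat.of k)) x.1).toAlgebra
      Module.finrank k (C.residueField x)) :=
  (h.exists_pointEquiv.choose_spec x).2

theorem ffield : FF30.FF k C.functionField := FF30.FF.of_isFunctionField h.ff

theorem isClosed_or_generic (x : C) : IsClosed ({x} : Set C) ∨ x = genericPoint C := by
  refine or_iff_not_imp_right.2 fun hx => Crv77.isClosed_singleton h.dim.le hx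

theorem regAt_iff (x : C) (z : C.functionField) :
    Curves2.RegAt x z ↔ ∀ hx : IsClosed ({x} : Set C), (h.place ⟨x, hx⟩).1 z ≤ 1 := by
  refine ⟨fun hz hx => (h.place_le_one_iff ⟨x, hx⟩ z).2 hz, fun hz => ?_⟩
  rcases h.isClosed_or_generic x with hx | rfl
  · exact (h.place_le_one_iff ⟨x, hx⟩ z).1 (hz hx)
  · exact Curves2.regAt_genericPoint z

theorem mem_range_germ_iff (V : C.Opens) (hV : genericPoint C ∈ V) (z : C.functionField) :
    (∃ s : Γ(C, V), C.presheaf.germ V (genericPoint C) hV s = z) ↔
      ∀ (y : C) (hy : IsClosed ({y} : Set C)), y ∈ V → (h.place ⟨y, hy⟩).1 z ≤ 1 := by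
  constructor
  · rintro ⟨s, rfl⟩ y hy hyV
    exact (h.regAt_iff y _).1 ⟨C.presheaf.germ V y hyV s, Curves2.algebraMap_germ y hyV s⟩ hy
  · exact fun hz => Curves2.exists_section_of_regAt V hV z fun y hy => (h.regAt_iff y z).2 fun hcl => hz y hcl hy

end Setup

end Groth.Agent.CrvPic30
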