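import Groth.Agent.CrvPic30.Setup
import Groth.Agent.Mero90.TensorLift
import Groth.Agent.Mero90.Triv
import Groth.Agent.Crv77.InvMod
import Groth.Agent.Crv77.Sections
import Groth.Agent.Var76.LineBundle
import Groth.Agent.FF30.Riemann
import Groth.Agent.FF30.Degree

/-! The invertible sheaf of a divisor of the function field. -/

set_option autoImplicit false
set_option linter.style.haveILetI false

universe u

open CategoryTheory AlgebraicGeometry TopologicalSpace Opposite FunFld

namespace Groth.Agent.CrvPic30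

variable {k : Type u} [Field k] {C : Scheme.{u}} [C.Over (Spec (CommRingCat.of k))] [IsIntegral C]

attribute [local instance] ffAlg

omit [IsIntegral C] in
theorem gen_mem [IrreducibleSpace C] {U : C.Opens} {y : C} (hy : y ∈ U) : genericPoint C ∈ U :=
  (genericPoint_specializes y).mem_open U.2 hy

omit [IsIntegral C] in
theorem kStalk_eq_stalkMap (f : C ⟶ Spec (CommRingCat.of k)) (x : C) :
    Cyc90.kStalk f x = (C.presheaf.germ ⊤ x trivial).hom.comp (Coh.toGlobal f) := by
  have h : CommRingCat.ofHom (Cyc90.kStalk f x) =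
      (Scheme.ΓSpecIso (CommRingCat.of k)).inv ≫ f.appTop ≫ C.presheaf.germ ⊤ x trivial := by
    apply Spec.map_injective
    rw [Cyc90.kStalk_spec]
    simp only [Spec.map_comp, Category.assoc]
    rw [← Scheme.fromSpecStalk_toSpecΓ_assoc]
    congr 1
    rw [← Scheme.toSpecΓ_naturality_assoc, ← SpecMap_ΓSpecIso_hom, ← Spec.map_comp, Iso.inv_hom_id,
      Spec.map_id, Category.comp_id]
  exact congrArg CommRingCat.Hom.hom h

namespace Setup

variable (h : Setup k C)

/-- Rational functions with poles bounded by a divisor, on the open sets. -/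
noncomputable def divPred (D : Divisor k C.functionField) :
    TopCat.LocalPredicate (fun _ : C => C.functionField) where
  pred {U} s := (∀ x y : U, s x = s y) ∧
    ∀ (x : U) (hx : IsClosed ({x.1} : Set C)),
      (h.place ⟨x.1, hx⟩).1 (s x) ≤ WithZero.exp (D (h.place ⟨x.1, hx⟩))
  res {V W} i f hf := ⟨fun x y => hf.1 ⟨x.1, i.le x.2⟩ ⟨y.1, i.le y.2⟩, fun x hx => hf.2 ⟨x.1, i.le x.2⟩ hx⟩
  locality {U} f hf := by
    refine ⟨fun x y => ?_, fun x hx => ?_⟩
    · obtain ⟨V, hxV, i, hV⟩ := hf x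
      obtain ⟨W, hyW, j, hW⟩ := hf y
      exact (hV.1 ⟨x.1, hxV⟩ ⟨genericPoint C, gen_mem hxV⟩).trans
        (hW.1 ⟨y.1, hyW⟩ ⟨genericPoint C, gen_mem hyW⟩).symm
    · obtain ⟨V, hxV, i, hV⟩ := hf x
      exact hV.2 ⟨x.1, hxV⟩ hx

instance isModPred_divPred (D : Divisor k C.functionField) : Mero.IsModPred (h.divPred D) where
  zero U := ⟨fun _ _ => rfl, fun x hx => by simp⟩
  add U f g hf hg := ⟨fun x y => by simp only [Pi.add_apply]; rw [hf.1 x y, hg.1 x y],
    fun x hx => ((h.place ⟨x.1, hx⟩).1.map_add _ _).trans (max_le (hf.2 x hx) (hg.2 x hx))⟩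
  smul U r f hf := by
    refine ⟨fun x y => ?_, fun x hx => ?_⟩
    · dsimp only
      rw [Algebra.smul_def, Algebra.smul_def, hf.1 x y, Curves2.algebraMap_germ, Curves2.algebraMap_germ]
    · dsimp only
      rw [Algebra.smul_def, map_mul]
      refine (mul_le_mul' ?_ (hf.2 x hx)).trans_eq (one_mul _)
      exact (h.place_le_one_iff ⟨x.1, hx⟩ _).2 ⟨_, rfl⟩

/-- The invertible sheaf of a divisor. -/
noncomputable def O (D : Divisor k C.functionField) : C.Modules := Mero.modOf (h.divPred D)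

variable {h}

/-- The value of a section. -/
noncomputable def rval {D : Divisor k C.functionField} {U : C.Opens} (hU : genericPoint C ∈ U)
    (t : Γ(h.O D, U)) : C.functionField := t.1 ⟨genericPoint C, hU⟩

section

variable {D : Divisor k C.functionField} {U : C.Opens} (hU : genericPoint C ∈ U)

theorem rval_add (t t' : Γ(h.O D, U)) : rval hU (t + t') = rval hU t + rval hU t' := rfl

theorem rval_zero : rval hU (0 : Γ(h.O D, U)) = 0 := rfl

theorem rval_smul (r : Γ(C, U)) (t : Γ(h.O D, U)) :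
    rval hU (r • t) = C.presheaf.germ U (genericPoint C) hU r * rval hU t :=
  (@Algebra.smul_def (C.presheaf.stalk (genericPoint C)) C.functionField _ _
    (stalkFunctionFieldAlgebra C (genericPoint C)) (C.presheaf.germ U (genericPoint C) hU r) (rval hU t)).trans
    (congrArg (· * rval hU t) (Curves2.algebraMap_germ (genericPoint C) hU r))

theorem rval_res {V : C.Opens} (hle : V ≤ U) (hV : genericPoint C ∈ V) (t : Γ(h.O D, U)) :
    rval hV (Var76.LineBundle.res (h.O D) hle t) = rval hU t := rfl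

theorem rval_injective : Function.Injective (rval (h := h) (D := D) hU) := fun t t' e =>
  Subtype.ext (funext fun x => (t.2.1 x ⟨_, hU⟩).trans (e.trans (t'.2.1 ⟨_, hU⟩ x)))

theorem rval_le (t : Γ(h.O D, U)) (y : C) (hy : IsClosed ({y} : Set C)) (hyU : y ∈ U) :
    (h.place ⟨y, hy⟩).1 (rval hU t) ≤ WithZero.exp (D (h.place ⟨y, hy⟩)) := by
  rw [show rval hU t = t.1 ⟨y, hyU⟩ from t.2.1 _ _]
  exact t.2.2 ⟨y, hyU⟩ hy

theorem exists_rval_eq (z : C.functionField)
    (hz : ∀ (y : C) (hy : IsClosed ({y} : Set C)), y ∈ U →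
      (h.place ⟨y, hy⟩).1 z ≤ WithZero.exp (D (h.place ⟨y, hy⟩))) :
    ∃ t : Γ(h.O D, U), rval hU t = z :=
  ⟨⟨fun _ => z, fun _ _ => rfl, fun x hx => hz x.1 hx x.2⟩, rfl⟩

/-- A function with the prescribed orders gives a frame. -/
theorem isFrame_of_rval (t : Γ(h.O D, U)) (hne : rval hU t ≠ 0)
    (hord : ∀ (y : C) (hy : IsClosed ({y} : Set C)), y ∈ U →
      (h.place ⟨y, hy⟩).1 (rval hU t) = WithZero.exp (D (h.place ⟨y, hy⟩))) :
    Var76.LineBundle.IsFrame (h.O D) U t := by
  intro V hV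
  by_cases hηV : genericPoint C ∈ V
  · have hval : ∀ c : Γ(C, V), rval hηV (c • Var76.LineBundle.res (h.O D) hV t) =
        C.presheaf.germ V (genericPoint C) hηV c * rval hU t := fun c => by
      rw [rval_smul, rval_res hU]
    constructor
    · intro c c' e
      have e1 := congrArg (rval (h := h) hηV) e
      dsimp only at e1
      rw [hval, hval] at e1
      exact germ_injective_of_isIntegral C (genericPoint C) hηV (mul_right_cancel₀ hne e1)
    · intro s
      obtain ⟨c, hc⟩ := (h.mem_range_germ_iff V hηV (rval hηV s / rval hU t)).2 fun y hy hyV => by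
        rw [map_div₀, hord y hy (hV hyV)]
        exact (div_le_one₀ (WithZero.exp_pos)).2 (rval_le hηV s y hy hyV)
      exact ⟨c, rval_injective hηV ((hval c).trans (by rw [hc, div_mul_cancel₀ _ hne]))⟩
  · have hemp : ∀ x : V, False := fun x => hηV (gen_mem x.2)
    have : Subsingleton Γ(C, V) := ⟨fun a b => TopCat.Presheaf.section_ext C.sheaf V a b fun x hx => (hemp ⟨x, hx⟩).elim⟩
    have : Subsingleton Γ(h.O D, V) := ⟨fun a b => Subtype.ext (funext fun x => (hemp x).elim)⟩
    exact ⟨fun a b _ => Subsingleton.elim a b, fun s => ⟨0, Subsingleton.elim _ _⟩⟩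

end

/-- An open neighbourhood avoiding given finitely many closed points. -/
theorem exists_open_nbhd (h : Setup k C) (x : C) (B : Set (Place k C.functionField)) (hB : B.Finite) :
    ∃ U : C.Opens, x ∈ U ∧ ∀ (y : C) (hy : IsClosed ({y} : Set C)), y ∈ U → y ≠ x → h.place ⟨y, hy⟩ ∉ B := by
  let S : Set C := ((fun P => (h.place.symm P).1) '' B) \ {x}
  have hS : S.Finite := (hB.image _).sdiff
  refine ⟨⟨Sᶜ, ?_⟩, fun hx => hx.2 rfl, fun y hy hyU hne hyB => hyU ⟨⟨_, hyB, by simp⟩, hne⟩⟩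
  rw [isOpen_compl_iff, ← Set.biUnion_of_singleton S]
  exact hS.isClosed_biUnion fun y hy => by
    obtain ⟨P, -, rfl⟩ := hy.1
    exact (h.place.symm P).2

theorem exists_local_fun (h : Setup k C) (D : Divisor k C.functionField) (x : C) :
    ∃ (U : C.Opens) (z : C.functionField), x ∈ U ∧ z ≠ 0 ∧
      ∀ (y : C) (hy : IsClosed ({y} : Set C)), y ∈ U →
        (h.place ⟨y, hy⟩).1 z = WithZero.exp (D (h.place ⟨y, hy⟩)) := by
  classical
  obtain ⟨z, hz0, hzx⟩ : ∃ z : C.functionField, z ≠ 0 ∧ ∀ hx : IsClosed ({x} : Set C),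
      (h.place ⟨x, hx⟩).1 z = WithZero.exp (D (h.place ⟨x, hx⟩)) := by
    by_cases hx : IsClosed ({x} : Set C)
    · obtain ⟨z, hz0, hz⟩ := FF30.exists_val_eq (h.place ⟨x, hx⟩) (D (h.place ⟨x, hx⟩))
      exact ⟨z, hz0, fun _ => hz⟩
    · exact ⟨1, one_ne_zero, fun hx' => absurd hx' hx⟩
  obtain ⟨U, hxU, hU⟩ := h.exists_open_nbhd x ↑(D.support ∪ (div k z).support) (Finset.finite_toSet _)
  refine ⟨U, z, hxU, hz0, fun y hy hyU => ?_⟩
  by_cases hyx : y = x
  · subst hyx; exact hzx hy
  have hn := hU y hy hyU hyx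
  rw [Finset.coe_union, Set.mem_union, Finset.mem_coe, Finset.mem_coe, Finsupp.mem_support_iff,
    Finsupp.mem_support_iff, not_or, not_not, not_not] at hn
  rw [hn.1, WithZero.exp_zero, FF30.val_eq_one_iff _ hz0, ← h.ffield.div_apply]
  exact hn.2

theorem exists_frame_O (h : Setup k C) (D : Divisor k C.functionField) (x : C) :
    ∃ (U : C.Opens) (hU : x ∈ U) (t : Γ(h.O D, U)), Var76.LineBundle.IsFrame (h.O D) U t ∧
      rval (gen_mem hU) t ≠ 0 := by
  obtain ⟨U, z, hxU, hz0, hz⟩ := h.exists_local_fun D x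
  obtain ⟨t, ht⟩ := exists_rval_eq (h := h) (D := D) (gen_mem hxU) z fun y hy hyU => (hz y hy hyU).le
  exact ⟨U, hxU, t, isFrame_of_rval (gen_mem hxU) t (ht ▸ hz0) (fun y hy hyU => ht.symm ▸ hz y hy hyU), ht ▸ hz0⟩

theorem isInvertible_O (h : Setup k C) (D : Divisor k C.functionField) : PicF.IsInvertible (h.O D) := fun x => by
  obtain ⟨U, hx, e, he, -⟩ := h.exists_frame_O D x
  exact ⟨U, hx, EGA73.nonempty_restrict_iso_unit _ U e he⟩

/-- Global sections are the Riemann-Roch space. -/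
theorem finrank_h0_O (h : Setup k C) (D : Divisor k C.functionField) :
    Module.finrank k (Coh.HH C (h.O D) 0) = ell D := by
  have hη : genericPoint C ∈ (⊤ : C.Opens) := trivial
  let φ : Coh.HH C (h.O D) 0 →ₗ[k] C.functionField :=
    { toFun := fun c => rval hη (Crv77.sec (h.O D) c)
      map_add' := fun c c' => by rw [map_add]; exact rval_add hη _ _
      map_smul' := fun a c => by
        rw [RingHom.id_apply, Crv77.sec_smul, rval_smul, Algebra.smul_def]
        congr 1
        exact (RingHom.congr_fun (kStalk_eq_stalkMap (C ↘ Spec (CommRingCat.of k)) (genericPoint C)) a).symm }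
  have hφ : Function.Injective φ := fun a b e => (Crv77.sec (h.O D)).injective (rval_injective hη e)
  have hr : LinearMap.range φ = L D := by
    refine le_antisymm ?_ fun z hz => ?_
    · rintro _ ⟨c, rfl⟩ P
      have := rval_le hη (Crv77.sec (h.O D) c) (h.place.symm P).1 (h.place.symm P).2 trivial
      simp only [Subtype.coe_eta, Equiv.apply_symm_apply] at this
      exact this
    · obtain ⟨t, ht⟩ := exists_rval_eq (h := h) (D := D) hη z fun y hy _ => hz _
      exact ⟨(Crv77.sec (h.O D)).symm t, by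
        show rval hη (Crv77.sec (h.O D) _) = z
        rw [AddEquiv.apply_symm_apply, ht]⟩
  rw [(LinearEquiv.ofInjective φ hφ).finrank_eq, hr]
  rfl

theorem nonempty_iso_O_zero (h : Setup k C) :
    Nonempty (Coh.structureModule C ≅ h.O (0 : Divisor k C.functionField)) := by
  obtain ⟨t, ht⟩ := exists_rval_eq (h := h) (D := (0 : Divisor k C.functionField)) (U := ⊤) trivial 1
    (fun y hy _ => by simp)
  have := Crv77.isIso_unitHom_of_isFrame (isFrame_of_rval (U := ⊤) (show genericPoint C ∈ (⊤ : C.Opens) from trivial) t (ht ▸ one_ne_zero)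
    fun y hy _ => by simp [ht])
  exact ⟨asIso (EGA73.unitHom _ t)⟩

theorem finrank_h0_structureModule (h : Setup k C) :
    Module.finrank k (Coh.HH C (Coh.structureModule C) 0) = 1 := by
  obtain ⟨e⟩ := h.nonempty_iso_O_zero
  rw [(Crv77.hEquiv k e 0).finrank_eq, h.finrank_h0_O, FF30.ell_zero h.ff]

/-- Multiplication of sections. -/
noncomputable def mulPairing (h : Setup k C) (D E : Divisor k C.functionField) :
    Mero90.Pairing (h.O D) (h.O E) (h.O (D + E)) where
  b U m n := ⟨fun x => m.1 x * n.1 x, fun x y => congrArg₂ (· * ·) (m.2.1 x y) (n.2.1 x y), fun x hx => by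
    rw [map_mul, Finsupp.add_apply, WithZero.exp_add]
    exact mul_le_mul' (m.2.2 x hx) (n.2.2 x hx)⟩
  add_left U m m' n := Subtype.ext (funext fun x => add_mul _ _ _)
  add_right U m n n' := Subtype.ext (funext fun x => mul_add _ _ _)
  smul_left U r m n := Subtype.ext (funext fun x => smul_mul_assoc _ _ _)
  smul_right U r m n := Subtype.ext (funext fun x => mul_smul_comm _ _ _)
  nat U V hle m n := rfl

theorem nonempty_iso_tensor (h : Setup k C) (D E : Divisor k C.functionField) :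
    Nonempty (CohB1.tensorMod (h.O D) (h.O E) ≅ h.O (D + E)) := by
  have : IsIso (h.mulPairing D E).lift := by
    refine Mero90.Pairing.isIso_lift _ fun x => ?_
    obtain ⟨U₁, z₁, hx₁, hz₁, ho₁⟩ := h.exists_local_fun D x
    obtain ⟨U₂, z₂, hx₂, hz₂, ho₂⟩ := h.exists_local_fun E x
    have hη : genericPoint C ∈ U₁ ⊓ U₂ := gen_mem (y := x) ⟨hx₁, hx₂⟩
    obtain ⟨t₁, ht₁⟩ := exists_rval_eq (h := h) (D := D) hη z₁ fun y hy hyU => (ho₁ y hy hyU.1).le
    obtain ⟨t₂, ht₂⟩ := exists_rval_eq (h := h) (D := E) hη z₂ fun y hy hyU => (ho₂ y hy hyU.2).le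
    have hb : rval hη ((h.mulPairing D E).b (U₁ ⊓ U₂) t₁ t₂) = z₁ * z₂ := by rw [← ht₁, ← ht₂]; rfl
    refine ⟨U₁ ⊓ U₂, t₁, t₂, ⟨hx₁, hx₂⟩, isFrame_of_rval hη t₁ (ht₁ ▸ hz₁) fun y hy hyU => ht₁.symm ▸ ho₁ y hy hyU.1,
      isFrame_of_rval hη t₂ (ht₂ ▸ hz₂) fun y hy hyU => ht₂.symm ▸ ho₂ y hy hyU.2,
      isFrame_of_rval hη _ (hb ▸ mul_ne_zero hz₁ hz₂) fun y hy hyU => ?_⟩
    rw [hb, map_mul, ho₁ y hy hyU.1, ho₂ y hy hyU.2, Finsupp.add_apply, WithZero.exp_add]
  exact ⟨asIso (h.mulPairing D E).lift⟩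

end Setup

end Groth.Agent.CrvPic30
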